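import Cfsg.Agent.H58.Cert.FiT1D

set_option autoImplicit false
set_option maxRecDepth 100000

namespace Cfsg.Agent.H58.FiT1

open Cfsg.Agent.H58

theorem d0 : sumPow (grd 34937 (defn tbl rnk (okPair iv))) 13 0 = 0 := by decide +kernel
theorem d1 : sumPow (grd 34937 (defn tbl rnk (okPair iv))) 13 1 = 0 := by decide +kernel
theorem d2 : sumPow (grd 34937 (defn tbl rnk (okPair iv))) 13 2 = 0 := by decide +kernel
theorem d3 : sumPow (grd 34937 (defn tbl rnk (okPair iv))) 13 3 = 0 := by decide +kernel
theorem d4 : sumPow (grd 34937 (defn tbl rnk (okPair iv))) 13 4 = 0 := by decide +kernel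
theorem s0 : sumPow (grd 4797 (chunk tbl (okRule iv tree) str 1101)) 8 0 = 0 := by decide +kernel
theorem s1 : sumPow (grd 4797 (chunk tbl (okRule iv tree) str 1101)) 8 1 = 0 := by decide +kernel
theorem s2 : sumPow (grd 4797 (chunk tbl (okRule iv tree) str 1101)) 8 2 = 0 := by decide +kernel
theorem s3 : sumPow (grd 4797 (chunk tbl (okRule iv tree) str 1101)) 8 3 = 0 := by decide +kernel
theorem s4 : sumPow (grd 4797 (chunk tbl (okRule iv tree) str 1101)) 8 4 = 0 := by decide +kernel
theorem s5 : sumPow (grd 4797 (chunk tbl (okRule iv tree) str 1101)) 8 5 = 0 := by decide +kernel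
theorem s6 : sumPow (grd 4797 (chunk tbl (okRule iv tree) str 1101)) 8 6 = 0 := by decide +kernel
theorem s7 : sumPow (grd 4797 (chunk tbl (okRule iv tree) str 1101)) 8 7 = 0 := by decide +kernel
theorem s8 : sumPow (grd 4797 (chunk tbl (okRule iv tree) str 1101)) 8 8 = 0 := by decide +kernel
theorem s9 : sumPow (grd 4797 (chunk tbl (okRule iv tree) str 1101)) 8 9 = 0 := by decide +kernel
theorem s10 : sumPow (grd 4797 (chunk tbl (okRule iv tree) str 1101)) 8 10 = 0 := by decide +kernel
theorem s11 : sumPow (grd 4797 (chunk tbl (okRule iv tree) str 1101)) 8 11 = 0 := by decide +kernel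
theorem s12 : sumPow (grd 4797 (chunk tbl (okRule iv tree) str 1101)) 8 12 = 0 := by decide +kernel
theorem s13 : sumPow (grd 4797 (chunk tbl (okRule iv tree) str 1101)) 8 13 = 0 := by decide +kernel
theorem s14 : sumPow (grd 4797 (chunk tbl (okRule iv tree) str 1101)) 8 14 = 0 := by decide +kernel
theorem s15 : sumPow (grd 4797 (chunk tbl (okRule iv tree) str 1101)) 8 15 = 0 := by decide +kernel
theorem s16 : sumPow (grd 4797 (chunk tbl (okRule iv tree) str 1101)) 8 16 = 0 := by decide +kernel
theorem s17 : sumPow (grd 4797 (chunk tbl (okRule iv tree) str 1101)) 8 17 = 0 := by decide +kernel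
theorem s18 : sumPow (grd 4797 (chunk tbl (okRule iv tree) str 1101)) 8 18 = 0 := by decide +kernel
theorem c0 : sumPow (clchunk tbl clo 377471 2026943 10 1852673703866916700784990270100782980831965120772341616960975575478807790878721) 9 0 = 0 := by decide +kernel
theorem c1 : sumPow (clchunk tbl clo 377471 2026943 10 1852673703866916700784990270100782980831965120772341616960975575478807790878721) 9 1 = 0 := by decide +kernel
theorem c2 : sumPow (clchunk tbl clo 377471 2026943 10 1852673703866916700784990270100782980831965120772341616960975575478807790878721) 9 2 = 0 := by decide +kernel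
theorem c3 : sumPow (clchunk tbl clo 377471 2026943 10 1852673703866916700784990270100782980831965120772341616960975575478807790878721) 9 3 = 0 := by decide +kernel
theorem c4 : sumPow (clchunk tbl clo 377471 2026943 10 1852673703866916700784990270100782980831965120772341616960975575478807790878721) 9 4 = 0 := by decide +kernel
theorem c5 : sumPow (clchunk tbl clo 377471 2026943 10 1852673703866916700784990270100782980831965120772341616960975575478807790878721) 9 5 = 0 := by decide +kernel
theorem c6 : sumPow (clchunk tbl clo 377471 2026943 10 1852673703866916700784990270100782980831965120772341616960975575478807790878721) 9 6 = 0 := by decide +kernel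
theorem c7 : sumPow (clchunk tbl clo 377471 2026943 10 1852673703866916700784990270100782980831965120772341616960975575478807790878721) 9 7 = 0 := by decide +kernel

end Cfsg.Agent.H58.FiT1
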