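import Cfsg.Agent.H58.TCPres

set_option autoImplicit false
set_option maxRecDepth 100000

namespace Cfsg.Agent.H58.Suz5

open Cfsg.Agent.H58

noncomputable def tb0 : Nat → Nat := (lf (nat_lit 0xe0c0003c3000000000000000000000000000000000000000000000000000000000000000000000000000000000000000000000000000000000000000000000000000000000000000000000000000000000000000000000000000000000000000000000000000000000000000000000000000000000f100003440000e100003040000d0c0002c30000c0c0002830000b100002440000a10000204000090c0001c3000080c00018300007100001440000610000104000050c0000c3000040c00008300003100000440000210000004000010c000003))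
noncomputable def rk0 : Nat → Nat := (lf (nat_lit 0xf0000e0000d0000c0000b0000a00009000080000700006000050000400003000020000100000))
noncomputable def st0 : Nat → Nat := (lf (nat_lit 0x8c0001380002b00005e0000cc0001b80003b00007e0000f00001c0000340000600000b0000140000240f))
noncomputable def cl0 : Nat → Nat := (nd (nat_lit 1) (lf (nat_lit 0xde0001c8000388000740000ec0001cc0003c0000750000ee0001e80003c80007c0000fc0001ec0003f80007d)) (lf (nat_lit 0x7e0001880001f0000640000cc00018c000340000650000ce0001a80003480006c0000dc0001ac0003800006d)))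
def iv : Nat := 31204079050816

def rels : List (List Nat) := [[1, 2, 1, 2, 1, 2, 1, 2, 1, 2],
  [1, 3, 1, 3],
  [1, 4, 1, 4],
  [1, 5, 1, 5],
  [1, 6, 1, 6],
  [1, 7, 1, 7],
  [2, 3, 2, 3, 2, 3],
  [2, 4, 2, 4],
  [2, 5, 2, 5],
  [2, 6, 2, 6, 2, 6],
  [2, 7, 2, 7, 2, 7],
  [3, 4, 3, 4, 3, 4, 3, 4, 3, 4, 3, 4, 3, 4, 3, 4],
  [3, 5, 3, 5],
  [3, 6, 3, 6],
  [3, 7, 3, 7],
  [4, 5, 4, 5, 4, 5],
  [4, 6, 4, 6],
  [4, 7, 4, 7],
  [5, 6, 5, 6],
  [5, 7, 5, 7],
  [6, 7, 6, 7, 6, 7, 6, 7],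
  [1, 4, 3, 4, 3, 4, 3, 4, 3],
  [1, 7, 6, 7, 6],
  [1, 2, 3, 6, 1, 2, 3, 6, 1, 2, 3, 6, 1, 2, 3, 6, 1, 2, 3, 6],
  [2, 6, 7, 2, 6, 7, 2, 6, 7, 2, 6, 7, 2, 6, 7],
  [2, 3, 4, 3, 4, 2, 3, 4, 3, 4, 2, 3, 4, 3, 4, 2, 3, 4, 3, 4, 2, 3, 4, 3, 4, 5, 2, 3, 4, 3, 4, 2, 3, 4, 3, 4, 2, 3, 4, 3, 4, 2, 3, 4, 3, 4, 2, 3, 4, 3, 4, 5, 2, 3, 4, 3, 4, 2, 3, 4, 3, 4, 2, 3, 4, 3, 4, 2, 3, 4, 3, 4, 2, 3, 4, 3, 4, 5]]

noncomputable def tbl : Nat → Nat := (nd (nat_lit 1) tb0 (lf (nat_lit 0)))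
noncomputable def rnk : Nat → Nat := (nd (nat_lit 1) rk0 (lf (nat_lit 0)))
noncomputable def str : Nat → Nat := (nd (nat_lit 1) st0 (lf (nat_lit 0)))
noncomputable def clo : Nat → Nat := (nd (nat_lit 2) cl0 (lf (nat_lit 0)))
def tree : ST := (ST.node (ST.node ST.nil (nat_lit 1) (nat_lit 0) (nat_lit 0) ST.nil) (nat_lit 84239174502346013646468952323) (nat_lit 24) (nat_lit 15) ST.nil)

theorem d0 : sumPow (grd 15 (defn tbl rnk (okPair iv))) 6 0 = 0 := by decide +kernel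
theorem s0 : sumPow (grd 1 (chunk tbl (okRule iv tree) str 9)) 3 0 = 0 := by decide +kernel
theorem c0 : sumPow (clchunk tbl clo 639 1023 2 4503599895805955) 11 0 = 0 := by decide +kernel

noncomputable def C : Cert := ⟨tbl, rnk, str, clo, tree, 15, 17, 9, 1, []⟩

theorem good : C.Good rels iv :=
  ⟨by decide, by decide +kernel,
   all_lt_of_gblocks _ 6 15 1 (by decide) (blocks_cons (blocks_nil _) d0),
   by decide +kernel,
   all_lt_of_gblocks _ 3 1 1 (by decide) (blocks_cons (blocks_nil _) s0)⟩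

theorem closed : C.Closed [3, 4] 15 :=
  ⟨by decide, by decide, 639, 1023, 2, 4503599895805955, by decide, by decide, by decide +kernel,
    all_lt_of_blocks _ 11 2 1 (by decide) (blocks_cons (blocks_nil _) c0)⟩

theorem relIndex_le {G : Type*} [Group G] {el : ℕ → G} (R : RuleOK el rels iv) (H : Subgroup G)
    (hfix : ∀ x ∈ ([] : List ℕ), el x ∈ H) :
    H.relIndex (Subgroup.closure (el '' {x | x ∈ ([3, 4] : List ℕ)})) ≠ 0 ∧
      H.relIndex (Subgroup.closure (el '' {x | x ∈ ([3, 4] : List ℕ)})) ≤ 16 :=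
  Cert.relIndex_le good closed R H hfix


end Cfsg.Agent.H58.Suz5
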