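import Cfsg.Agent.H58.TCPres

set_option autoImplicit false
set_option maxRecDepth 100000

namespace Cfsg.Agent.H58.He5

open Cfsg.Agent.H58

noncomputable def tb0 : Nat → Nat := (lf (nat_lit 0x50c0001c300006040001c1000030c000183000030400014100002040001010000000000000000000000000000000000000000000000000000000000000000000000000000000000000000000000000000000000000000000000000000000000000000000000000000000000000000000000000000000000000000000000000000000000000000000000000000000000000000000000000000000000000000000000000000000000000000000000000000000000000000000000000000000000000000071400010500006140000850000514000045000040c0000430000314000005000020c0000030000104000001))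
noncomputable def rk0 : Nat → Nat := (lf (nat_lit 0x700006000050000400003000020000100000))
noncomputable def st0 : Nat → Nat := (lf (nat_lit 0xec0002080003e030000720000100001d018000390000820000f80c0001c800041000078060000e40001f80003c03))
noncomputable def cl0 : Nat → Nat := (lf (nat_lit 0x720000dc000390000380000760001d00001e8000360000ec0000fc0003c0000730000780000e80003d00003e0000f80001d40003f0000790000ee0001fc0003e80007b))
def iv : Nat := 31204079050816

def rels : List (List Nat) := [[1, 2, 1, 2, 1, 2, 1, 2],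
  [1, 3, 1, 3],
  [1, 4, 1, 4],
  [1, 5, 1, 5],
  [1, 6, 1, 6],
  [1, 7, 1, 7],
  [2, 3, 2, 3, 2, 3],
  [2, 4, 2, 4],
  [2, 5, 2, 5],
  [2, 6, 2, 6],
  [2, 7, 2, 7],
  [3, 4, 3, 4, 3, 4, 3, 4, 3, 4, 3, 4, 3, 4, 3, 4, 3, 4, 3, 4],
  [3, 5, 3, 5],
  [3, 6, 3, 6],
  [3, 7, 3, 7],
  [4, 5, 4, 5, 4, 5],
  [4, 6, 4, 6, 4, 6],
  [4, 7, 4, 7, 4, 7],
  [5, 6, 5, 6],
  [5, 7, 5, 7],
  [6, 7, 6, 7, 6, 7, 6, 7],
  [5, 7, 6, 7, 6],
  [5, 3, 2, 1, 3, 2, 1, 3, 2, 1],
  [1, 4, 3, 4, 3, 4, 3, 4, 3, 4, 3],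
  [3, 4, 6, 7, 3, 4, 6, 7, 3, 4, 6, 7, 3, 4, 6, 7]]

noncomputable def tbl : Nat → Nat := (nd (nat_lit 1) tb0 (lf (nat_lit 0)))
noncomputable def rnk : Nat → Nat := (nd (nat_lit 1) rk0 (lf (nat_lit 0)))
noncomputable def str : Nat → Nat := (nd (nat_lit 1) st0 (lf (nat_lit 0)))
noncomputable def clo : Nat → Nat := (nd (nat_lit 1) cl0 (lf (nat_lit 0)))
def tree : ST := (ST.node (ST.node (ST.node ST.nil (nat_lit 1) (nat_lit 0) (nat_lit 0) ST.nil) (nat_lit 17567937) (nat_lit 4) (nat_lit 3) ST.nil) (nat_lit 18092353) (nat_lit 8) (nat_lit 3) (ST.node ST.nil (nat_lit 18100547) (nat_lit 26) (nat_lit 3) ST.nil))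

theorem d0 : sumPow (grd 7 (defn tbl rnk (okPair iv))) 6 0 = 0 := by decide +kernel
theorem s0 : sumPow (grd 1 (chunk tbl (okRule iv tree) str 9)) 3 0 = 0 := by decide +kernel
theorem c0 : sumPow (clchunk tbl clo 639 511 3 302231477421655631855617) 11 0 = 0 := by decide +kernel

noncomputable def C : Cert := ⟨tbl, rnk, str, clo, tree, 7, 25, 9, 1, []⟩

theorem good : C.Good rels iv :=
  ⟨by decide, by decide +kernel,
   all_lt_of_gblocks _ 6 7 1 (by decide) (blocks_cons (blocks_nil _) d0),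
   by decide +kernel,
   all_lt_of_gblocks _ 3 1 1 (by decide) (blocks_cons (blocks_nil _) s0)⟩

theorem closed : C.Closed [1, 3, 5] 7 :=
  ⟨by decide, by decide, 639, 511, 3, 302231477421655631855617, by decide, by decide, by decide +kernel,
    all_lt_of_blocks _ 11 1 1 (by decide) (blocks_cons (blocks_nil _) c0)⟩

theorem relIndex_le {G : Type*} [Group G] {el : ℕ → G} (R : RuleOK el rels iv) (H : Subgroup G)
    (hfix : ∀ x ∈ ([] : List ℕ), el x ∈ H) :
    H.relIndex (Subgroup.closure (el '' {x | x ∈ ([1, 3, 5] : List ℕ)})) ≠ 0 ∧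
      H.relIndex (Subgroup.closure (el '' {x | x ∈ ([1, 3, 5] : List ℕ)})) ≤ 8 :=
  Cert.relIndex_le good closed R H hfix


end Cfsg.Agent.H58.He5
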