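import Cfsg.Agent.H58.TCPres

set_option autoImplicit false
set_option maxRecDepth 100000

namespace Cfsg.Agent.H58.He6

open Cfsg.Agent.H58

noncomputable def tb0 : Nat → Nat := (lf (nat_lit 0x1c000007000001800000600000140000050000010000004000000c00000300000080000020000004000001000000c0000030000004000001000010000000000008000000400000804000201000080c000203000000800000200002000000000000900000040000020c00024300009000002800000a100002840000a1c0002870000a1800028600008140002050000810000204000000c00004300001000000c000003100000c400003180000c600001140000450000118000046000021800008600002100000840000110000044000031c0000c7000021c000087000011c000047000001c00000700000100000040000400000000000001c00010700004180001060000018000006000070000010000000000001800000014000005000000000014000006100001c400004180001c6000041c00018700000000000000000000000000000000000000000000000000000000000000000000000000000000000000000000000000000000000000000000000000000000000000000000000000000000000000000000000000000000000000000000000000000000000000000000000000000000000000000000000000000000000000000000000000000000000000000000000000a0c00008300009040000810000808000042000071c000007000061800000600005140000050000410000004000030c00000300002080000020000104000001))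
noncomputable def rk0 : Nat → Nat := (lf (nat_lit 0xa00009000080000700006000050000400003000020000100000))
noncomputable def st0 : Nat → Nat := (nd (nat_lit 1) (lf (nat_lit 0x80006b020000020001a40000c8000680000020001a40000c8000680000020001a40003505800003000002040001940000d000064030000c600004000031018000650000140001900c000318000100000c40600000400035810000010000d200005c000340000010000d200005c000340000010000d20001b02c0000080000c020000ca00006c000320180000d000002000034000008200000b00000a0400001c000008100005f0000160001780c0002f8000090000bc0600016400002800058030000b200000c0002c018000590000020001600c000010000040200000000013c080002600000300009a0000140002600000306000008000114080000100000c0200000600010c080002280000100000e060000140001e8000420000120000140001e8300000100007e040000f40001d0000040000060000e4140001b8000380200006a0000e8080001a80003802)) (lf (nat_lit 0x114040002680800051010000820200001404000078080000301000004000078080000000008d0200011400000000001000001040000f40000040000a8000030000f60002240000c80007a00000200000c280000a80000100002a0000040000a80000100002a0000040000a8000010a0000ee000050000008000150000ec0a00000000040810000800000000001c40c0000b80007f0000f80000040003780007d00001e0001fc0003e0000010a)))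
def iv : Nat := 31204079050816

def rels : List (List Nat) := [[1, 2, 1, 2, 1, 2, 1, 2],
  [1, 3, 1, 3],
  [1, 4, 1, 4],
  [1, 5, 1, 5],
  [1, 6, 1, 6],
  [1, 7, 1, 7],
  [2, 3, 2, 3, 2, 3],
  [2, 4, 2, 4],
  [2, 5, 2, 5],
  [2, 6, 2, 6],
  [2, 7, 2, 7],
  [3, 4, 3, 4, 3, 4, 3, 4, 3, 4, 3, 4, 3, 4, 3, 4, 3, 4, 3, 4],
  [3, 5, 3, 5],
  [3, 6, 3, 6],
  [3, 7, 3, 7],
  [4, 5, 4, 5, 4, 5],
  [4, 6, 4, 6, 4, 6],
  [4, 7, 4, 7, 4, 7],
  [5, 6, 5, 6],
  [5, 7, 5, 7],
  [6, 7, 6, 7, 6, 7, 6, 7],
  [5, 7, 6, 7, 6],
  [5, 3, 2, 1, 3, 2, 1, 3, 2, 1],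
  [1, 4, 3, 4, 3, 4, 3, 4, 3, 4, 3],
  [3, 4, 6, 7, 3, 4, 6, 7, 3, 4, 6, 7, 3, 4, 6, 7],
  [4, 6, 7]]

noncomputable def tbl : Nat → Nat := (nd (nat_lit 1) tb0 (lf (nat_lit 0)))
noncomputable def rnk : Nat → Nat := (nd (nat_lit 1) rk0 (lf (nat_lit 0)))
noncomputable def str : Nat → Nat := (nd (nat_lit 2) st0 (lf (nat_lit 0)))
noncomputable def clo : Nat → Nat := (lf (nat_lit 0))
def tree : ST := (ST.node (ST.node (ST.node (ST.node (ST.node ST.nil (nat_lit 1) (nat_lit 0) (nat_lit 0) ST.nil) (nat_lit 4161) (nat_lit 0) (nat_lit 1) (ST.node ST.nil (nat_lit 4226) (nat_lit 0) (nat_lit 2) ST.nil)) (nat_lit 4291) (nat_lit 0) (nat_lit 3) (ST.node (ST.node ST.nil (nat_lit 4356) (nat_lit 0) (nat_lit 4) ST.nil) (nat_lit 4421) (nat_lit 0) (nat_lit 5) (ST.node ST.nil (nat_lit 4486) (nat_lit 0) (nat_lit 6) ST.nil))) (nat_lit 4551) (nat_lit 0) (nat_lit 7) (ST.node (ST.node (ST.node ST.nil (nat_lit 278919) (nat_lit 52) (nat_lit 0) ST.nil) (nat_lit 278982) (nat_lit 51) (nat_lit 1) (ST.node ST.nil (nat_lit 287172) (nat_lit 52) (nat_lit 2) ST.nil))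 (nat_lit 291204) (nat_lit 51) (nat_lit 0) (ST.node (ST.node ST.nil (nat_lit 17055812) (nat_lit 6) (nat_lit 2) ST.nil) (nat_lit 17068103) (nat_lit 12) (nat_lit 2) ST.nil))) (nat_lit 17318020) (nat_lit 16) (nat_lit 2) (ST.node (ST.node (ST.node (ST.node ST.nil (nat_lit 17322117) (nat_lit 18) (nat_lit 2) ST.nil) (nat_lit 17330311) (nat_lit 22) (nat_lit 2) (ST.node ST.nil (nat_lit 17588422) (nat_lit 28) (nat_lit 2) ST.nil)) (nat_lit 17592519) (nat_lit 30) (nat_lit 2) (ST.node (ST.node ST.nil (nat_lit 1176265157) (nat_lit 43) (nat_lit 0) ST.nil) (nat_lit 1192784261) (nat_lit 44) (nat_lit 4) ST.nil)) (nat_lit 70917828739) (nat_lit 14) (nat_lit 4) (ST.node (ST.node (ST.node ST.nil (nat_lit 75230626180) (nat_lit 34) (nat_lit 5) ST.nil) (nat_lit 76304630212) (nat_lit 36) (nat_lit 5) (ST.node ST.nil (nat_lit 1207255178471559234) (nat_lit 45) (nat_lit 8) ST.nil)) (nat_lit 1207532256458711109) (nat_lit 46) (nat_lit 9) (ST.node (ST.node ST.nil (nat_lit 74995080367186919620) (nat_lit 47) (nat_lit 1) ST.nil) (nat_lit 77318660630317641985)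 (nat_lit 47) (nat_lit 0) ST.nil))))

theorem d0 : sumPow (grd 10 (defn tbl rnk (okPair iv))) 6 0 = 0 := by decide +kernel
theorem s0 : sumPow (grd 2 (chunk tbl (okRule iv tree) str 9)) 3 0 = 0 := by decide +kernel

noncomputable def C : Cert := ⟨tbl, rnk, str, clo, tree, 10, 22, 9, 2, []⟩

theorem good : C.Good rels iv :=
  ⟨by decide, by decide +kernel,
   all_lt_of_gblocks _ 6 10 1 (by decide) (blocks_cons (blocks_nil _) d0),
   by decide +kernel,
   all_lt_of_gblocks _ 3 2 1 (by decide) (blocks_cons (blocks_nil _) s0)⟩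

theorem goal1 {G : Type*} [Group G] {el : ℕ → G} (R : RuleOK el rels iv) (H : Subgroup G)
    (hfix : ∀ x ∈ ([] : List ℕ), el x ∈ H) : el 1 ∈ H :=
  Cert.goal_mem good R H hfix (i := 658) (by decide +kernel) (by decide +kernel)

theorem goal2 {G : Type*} [Group G] {el : ℕ → G} (R : RuleOK el rels iv) (H : Subgroup G)
    (hfix : ∀ x ∈ ([] : List ℕ), el x ∈ H) : el 2 ∈ H :=
  Cert.goal_mem good R H hfix (i := 660) (by decide +kernel) (by decide +kernel)

theorem goal3 {G : Type*} [Group G] {el : ℕ → G} (R : RuleOK el rels iv) (H : Subgroup G)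
    (hfix : ∀ x ∈ ([] : List ℕ), el x ∈ H) : el 3 ∈ H :=
  Cert.goal_mem good R H hfix (i := 662) (by decide +kernel) (by decide +kernel)

theorem goal4 {G : Type*} [Group G] {el : ℕ → G} (R : RuleOK el rels iv) (H : Subgroup G)
    (hfix : ∀ x ∈ ([] : List ℕ), el x ∈ H) : el 4 ∈ H :=
  Cert.goal_mem good R H hfix (i := 664) (by decide +kernel) (by decide +kernel)

theorem goal5 {G : Type*} [Group G] {el : ℕ → G} (R : RuleOK el rels iv) (H : Subgroup G)
    (hfix : ∀ x ∈ ([] : List ℕ), el x ∈ H) : el 5 ∈ H :=
  Cert.goal_mem good R H hfix (i := 666) (by decide +kernel) (by decide +kernel)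

theorem goal6 {G : Type*} [Group G] {el : ℕ → G} (R : RuleOK el rels iv) (H : Subgroup G)
    (hfix : ∀ x ∈ ([] : List ℕ), el x ∈ H) : el 6 ∈ H :=
  Cert.goal_mem good R H hfix (i := 668) (by decide +kernel) (by decide +kernel)

theorem goal7 {G : Type*} [Group G] {el : ℕ → G} (R : RuleOK el rels iv) (H : Subgroup G)
    (hfix : ∀ x ∈ ([] : List ℕ), el x ∈ H) : el 7 ∈ H :=
  Cert.goal_mem good R H hfix (i := 670) (by decide +kernel) (by decide +kernel)


end Cfsg.Agent.H58.He6
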