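import Cfsg.Agent.H58.TCPres

set_option autoImplicit false
set_option Elab.async false
set_option maxRecDepth 100000

namespace Cfsg.Agent.H58.H3L2

open Cfsg.Agent.H58

noncomputable def tb0 : Nat → Nat := (lf (nat_lit 0x11c000047000011800004600001140000450000110000044000010c00004300001080000420000104000041000000000000000000000000000000000000000000000000000000000000000000000000000000000000000000000000000000000000000000000000000000000000000000000000000000000000000000000000000000000000000000000000000000000000000000000000000000000000000000000000000000000000000000000000000000000000000000000000000000000000000000000000000001c000007000001800000600000140000050000010000004000000c000003000000800000200000040000010000120000008))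
noncomputable def rk0 : Nat → Nat := (lf (nat_lit 0x100000))
noncomputable def st0 : Nat → Nat := (lf (nat_lit 0x4b0000780001280c0002480003c0000900600011c0001e0000460300008a0000f000022018000430000780001080c0002080003c000080060000fc0001e00003e03))
noncomputable def cl0 : Nat → Nat := (lf (nat_lit 0x7e0000f40001d80003900006e0000d40001980007e0000fa0001ec0003c8000770000ea0001cc0003880007f))
def iv : Nat := 164412590478073920

def rels : List (List Nat) := [[1, 2, 1, 2, 1, 2],
  [1, 3, 1, 3],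
  [1, 4, 1, 4],
  [1, 5, 1, 5],
  [1, 6, 1, 6],
  [1, 7, 1, 7],
  [1, 8, 1, 8],
  [2, 3, 2, 3, 2, 3],
  [2, 4, 2, 4],
  [2, 5, 2, 5],
  [2, 6, 2, 6],
  [2, 7, 2, 7],
  [2, 8, 2, 8],
  [3, 4, 3, 4, 3, 4],
  [3, 5, 3, 5],
  [3, 6, 3, 6],
  [3, 7, 3, 7],
  [3, 8, 3, 8],
  [4, 5, 4, 5, 4, 5],
  [4, 6, 4, 6],
  [4, 7, 4, 7],
  [4, 8, 4, 8],
  [5, 6, 5, 6, 5, 6],
  [5, 7, 5, 7],
  [5, 8, 5, 8],
  [6, 7, 6, 7, 6, 7],
  [6, 8, 6, 8],
  [7, 8, 7, 8],
  [9, 8, 9, 1],
  [9, 3, 9, 8, 1, 3, 5, 7],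
  [9, 4, 9, 8, 1, 3, 5, 4, 3, 6, 5, 4, 3, 7, 6, 5],
  [9, 5, 9, 8, 1, 3, 6, 5, 7, 6],
  [9, 6, 9, 8, 1, 4, 3, 5, 4, 7],
  [9, 7, 9, 8, 1, 3, 5, 6, 5, 7, 6, 5],
  [2, 1, 3, 2, 8, 9, 2, 1, 3, 2, 8, 9, 2, 1, 3, 2, 8, 9, 2, 1, 3, 2, 8, 9]]

noncomputable def tbl : Nat → Nat := (nd (nat_lit 1) tb0 (lf (nat_lit 0)))
noncomputable def rnk : Nat → Nat := (nd (nat_lit 1) rk0 (lf (nat_lit 0)))
noncomputable def str : Nat → Nat := (nd (nat_lit 1) st0 (lf (nat_lit 0)))
noncomputable def clo : Nat → Nat := (nd (nat_lit 1) cl0 (lf (nat_lit 0)))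
def tree : ST := (ST.node (ST.node (ST.node (ST.node ST.nil (nat_lit 1) (nat_lit 0) (nat_lit 0) ST.nil) (nat_lit 18878977) (nat_lit 14) (nat_lit 3) ST.nil) (nat_lit 18883074) (nat_lit 26) (nat_lit 3) (ST.node ST.nil (nat_lit 18887171) (nat_lit 36) (nat_lit 3) ST.nil)) (nat_lit 18891268) (nat_lit 44) (nat_lit 3) (ST.node (ST.node ST.nil (nat_lit 18895365) (nat_lit 50) (nat_lit 3) ST.nil) (nat_lit 18899462) (nat_lit 54) (nat_lit 3) (ST.node ST.nil (nat_lit 18903559) (nat_lit 56) (nat_lit 3) ST.nil)))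

theorem d0 : sumPow (grd 1 (defn tbl rnk (okPair iv))) 6 0 = 0 := by decide +kernel
theorem s0 : sumPow (grd 1 (chunk tbl (okRule iv tree) str 9)) 3 0 = 0 := by decide +kernel
theorem c0 : sumPow (clchunk tbl clo 639 127 8 411376188370159457654160262153376723740042460757691502067449857) 9 0 = 0 := by decide +kernel

noncomputable def C : Cert := ⟨tbl, rnk, str, clo, tree, 1, 31, 9, 1, [1, 2, 3, 4, 5, 6, 7]⟩

theorem good : C.Good rels iv :=
  ⟨by decide, by decide +kernel,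
   all_lt_of_gblocks _ 6 1 1 (by decide) (blocks_cons (blocks_nil _) d0),
   by decide +kernel,
   all_lt_of_gblocks _ 3 1 1 (by decide) (blocks_cons (blocks_nil _) s0)⟩

theorem closed : C.Closed [1, 2, 3, 4, 5, 6, 7, 8] 1 :=
  ⟨by decide, by decide, 639, 127, 8, 411376188370159457654160262153376723740042460757691502067449857, by decide, by decide, by decide +kernel,
    all_lt_of_blocks _ 9 1 1 (by decide) (blocks_cons (blocks_nil _) c0)⟩

theorem relIndex_le {G : Type*} [Group G] {el : ℕ → G} (R : RuleOK el rels iv) (H : Subgroup G)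
    (hfix : ∀ x ∈ ([1, 2, 3, 4, 5, 6, 7] : List ℕ), el x ∈ H) :
    H.relIndex (Subgroup.closure (el '' {x | x ∈ ([1, 2, 3, 4, 5, 6, 7, 8] : List ℕ)})) ≠ 0 ∧
      H.relIndex (Subgroup.closure (el '' {x | x ∈ ([1, 2, 3, 4, 5, 6, 7, 8] : List ℕ)})) ≤ 2 :=
  Cert.relIndex_le good closed R H hfix


end Cfsg.Agent.H58.H3L2
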