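import Cfsg.Agent.H58.Cert.F24AD

set_option autoImplicit false
set_option Elab.async false
set_option maxRecDepth 100000

namespace Cfsg.Agent.H58.F24A

open Cfsg.Agent.H58

theorem d0 : sumPow (grd 340632 (defn tbl rnk (okPair iv))) 15 0 = 0 := by decide +kernel
theorem d1 : sumPow (grd 340632 (defn tbl rnk (okPair iv))) 15 1 = 0 := by decide +kernel
theorem d2 : sumPow (grd 340632 (defn tbl rnk (okPair iv))) 15 2 = 0 := by decide +kernel
theorem d3 : sumPow (grd 340632 (defn tbl rnk (okPair iv))) 15 3 = 0 := by decide +kernel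
theorem d4 : sumPow (grd 340632 (defn tbl rnk (okPair iv))) 15 4 = 0 := by decide +kernel
theorem d5 : sumPow (grd 340632 (defn tbl rnk (okPair iv))) 15 5 = 0 := by decide +kernel
theorem d6 : sumPow (grd 340632 (defn tbl rnk (okPair iv))) 15 6 = 0 := by decide +kernel
theorem d7 : sumPow (grd 340632 (defn tbl rnk (okPair iv))) 15 7 = 0 := by decide +kernel
theorem d8 : sumPow (grd 340632 (defn tbl rnk (okPair iv))) 15 8 = 0 := by decide +kernel
theorem d9 : sumPow (grd 340632 (defn tbl rnk (okPair iv))) 15 9 = 0 := by decide +kernel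
theorem d10 : sumPow (grd 340632 (defn tbl rnk (okPair iv))) 15 10 = 0 := by decide +kernel
theorem s0 : sumPow (grd 54985 (chunk tbl (okRule iv tree) str 10654)) 8 0 = 0 := by decide +kernel
theorem s1 : sumPow (grd 54985 (chunk tbl (okRule iv tree) str 10654)) 8 1 = 0 := by decide +kernel
theorem s2 : sumPow (grd 54985 (chunk tbl (okRule iv tree) str 10654)) 8 2 = 0 := by decide +kernel
theorem s3 : sumPow (grd 54985 (chunk tbl (okRule iv tree) str 10654)) 8 3 = 0 := by decide +kernel
theorem s4 : sumPow (grd 54985 (chunk tbl (okRule iv tree) str 10654)) 8 4 = 0 := by decide +kernel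
theorem s5 : sumPow (grd 54985 (chunk tbl (okRule iv tree) str 10654)) 8 5 = 0 := by decide +kernel
theorem s6 : sumPow (grd 54985 (chunk tbl (okRule iv tree) str 10654)) 8 6 = 0 := by decide +kernel
theorem s7 : sumPow (grd 54985 (chunk tbl (okRule iv tree) str 10654)) 8 7 = 0 := by decide +kernel
theorem s8 : sumPow (grd 54985 (chunk tbl (okRule iv tree) str 10654)) 8 8 = 0 := by decide +kernel
theorem s9 : sumPow (grd 54985 (chunk tbl (okRule iv tree) str 10654)) 8 9 = 0 := by decide +kernel
theorem s10 : sumPow (grd 54985 (chunk tbl (okRule iv tree) str 10654)) 8 10 = 0 := by decide +kernel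
theorem s11 : sumPow (grd 54985 (chunk tbl (okRule iv tree) str 10654)) 8 11 = 0 := by decide +kernel
theorem s12 : sumPow (grd 54985 (chunk tbl (okRule iv tree) str 10654)) 8 12 = 0 := by decide +kernel
theorem s13 : sumPow (grd 54985 (chunk tbl (okRule iv tree) str 10654)) 8 13 = 0 := by decide +kernel
theorem s14 : sumPow (grd 54985 (chunk tbl (okRule iv tree) str 10654)) 8 14 = 0 := by decide +kernel
theorem s15 : sumPow (grd 54985 (chunk tbl (okRule iv tree) str 10654)) 8 15 = 0 := by decide +kernel
theorem s16 : sumPow (grd 54985 (chunk tbl (okRule iv tree) str 10654)) 8 16 = 0 := by decide +kernel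
theorem s17 : sumPow (grd 54985 (chunk tbl (okRule iv tree) str 10654)) 8 17 = 0 := by decide +kernel
theorem s18 : sumPow (grd 54985 (chunk tbl (okRule iv tree) str 10654)) 8 18 = 0 := by decide +kernel
theorem s19 : sumPow (grd 54985 (chunk tbl (okRule iv tree) str 10654)) 8 19 = 0 := by decide +kernel
theorem s20 : sumPow (grd 54985 (chunk tbl (okRule iv tree) str 10654)) 8 20 = 0 := by decide +kernel
theorem s21 : sumPow (grd 54985 (chunk tbl (okRule iv tree) str 10654)) 8 21 = 0 := by decide +kernel
theorem s22 : sumPow (grd 54985 (chunk tbl (okRule iv tree) str 10654)) 8 22 = 0 := by decide +kernel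
theorem s23 : sumPow (grd 54985 (chunk tbl (okRule iv tree) str 10654)) 8 23 = 0 := by decide +kernel
theorem s24 : sumPow (grd 54985 (chunk tbl (okRule iv tree) str 10654)) 8 24 = 0 := by decide +kernel
theorem s25 : sumPow (grd 54985 (chunk tbl (okRule iv tree) str 10654)) 8 25 = 0 := by decide +kernel

end Cfsg.Agent.H58.F24A
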