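import Cfsg.Agent.H58.Cert.F24AD

set_option autoImplicit false
set_option Elab.async false
set_option maxRecDepth 100000

namespace Cfsg.Agent.H58.F24A

open Cfsg.Agent.H58

theorem s26 : sumPow (grd 54985 (chunk tbl (okRule iv tree) str 10654)) 8 26 = 0 := by decide +kernel
theorem s27 : sumPow (grd 54985 (chunk tbl (okRule iv tree) str 10654)) 8 27 = 0 := by decide +kernel
theorem s28 : sumPow (grd 54985 (chunk tbl (okRule iv tree) str 10654)) 8 28 = 0 := by decide +kernel
theorem s29 : sumPow (grd 54985 (chunk tbl (okRule iv tree) str 10654)) 8 29 = 0 := by decide +kernel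
theorem s30 : sumPow (grd 54985 (chunk tbl (okRule iv tree) str 10654)) 8 30 = 0 := by decide +kernel
theorem s31 : sumPow (grd 54985 (chunk tbl (okRule iv tree) str 10654)) 8 31 = 0 := by decide +kernel
theorem s32 : sumPow (grd 54985 (chunk tbl (okRule iv tree) str 10654)) 8 32 = 0 := by decide +kernel
theorem s33 : sumPow (grd 54985 (chunk tbl (okRule iv tree) str 10654)) 8 33 = 0 := by decide +kernel
theorem s34 : sumPow (grd 54985 (chunk tbl (okRule iv tree) str 10654)) 8 34 = 0 := by decide +kernel
theorem s35 : sumPow (grd 54985 (chunk tbl (okRule iv tree) str 10654)) 8 35 = 0 := by decide +kernel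
theorem s36 : sumPow (grd 54985 (chunk tbl (okRule iv tree) str 10654)) 8 36 = 0 := by decide +kernel
theorem s37 : sumPow (grd 54985 (chunk tbl (okRule iv tree) str 10654)) 8 37 = 0 := by decide +kernel
theorem s38 : sumPow (grd 54985 (chunk tbl (okRule iv tree) str 10654)) 8 38 = 0 := by decide +kernel
theorem s39 : sumPow (grd 54985 (chunk tbl (okRule iv tree) str 10654)) 8 39 = 0 := by decide +kernel
theorem s40 : sumPow (grd 54985 (chunk tbl (okRule iv tree) str 10654)) 8 40 = 0 := by decide +kernel
theorem s41 : sumPow (grd 54985 (chunk tbl (okRule iv tree) str 10654)) 8 41 = 0 := by decide +kernel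
theorem s42 : sumPow (grd 54985 (chunk tbl (okRule iv tree) str 10654)) 8 42 = 0 := by decide +kernel
theorem s43 : sumPow (grd 54985 (chunk tbl (okRule iv tree) str 10654)) 8 43 = 0 := by decide +kernel
theorem s44 : sumPow (grd 54985 (chunk tbl (okRule iv tree) str 10654)) 8 44 = 0 := by decide +kernel
theorem s45 : sumPow (grd 54985 (chunk tbl (okRule iv tree) str 10654)) 8 45 = 0 := by decide +kernel
theorem s46 : sumPow (grd 54985 (chunk tbl (okRule iv tree) str 10654)) 8 46 = 0 := by decide +kernel
theorem s47 : sumPow (grd 54985 (chunk tbl (okRule iv tree) str 10654)) 8 47 = 0 := by decide +kernel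
theorem s48 : sumPow (grd 54985 (chunk tbl (okRule iv tree) str 10654)) 8 48 = 0 := by decide +kernel
theorem s49 : sumPow (grd 54985 (chunk tbl (okRule iv tree) str 10654)) 8 49 = 0 := by decide +kernel
theorem s50 : sumPow (grd 54985 (chunk tbl (okRule iv tree) str 10654)) 8 50 = 0 := by decide +kernel
theorem s51 : sumPow (grd 54985 (chunk tbl (okRule iv tree) str 10654)) 8 51 = 0 := by decide +kernel
theorem s52 : sumPow (grd 54985 (chunk tbl (okRule iv tree) str 10654)) 8 52 = 0 := by decide +kernel
theorem s53 : sumPow (grd 54985 (chunk tbl (okRule iv tree) str 10654)) 8 53 = 0 := by decide +kernel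
theorem s54 : sumPow (grd 54985 (chunk tbl (okRule iv tree) str 10654)) 8 54 = 0 := by decide +kernel
theorem s55 : sumPow (grd 54985 (chunk tbl (okRule iv tree) str 10654)) 8 55 = 0 := by decide +kernel
theorem s56 : sumPow (grd 54985 (chunk tbl (okRule iv tree) str 10654)) 8 56 = 0 := by decide +kernel
theorem s57 : sumPow (grd 54985 (chunk tbl (okRule iv tree) str 10654)) 8 57 = 0 := by decide +kernel
theorem s58 : sumPow (grd 54985 (chunk tbl (okRule iv tree) str 10654)) 8 58 = 0 := by decide +kernel
theorem s59 : sumPow (grd 54985 (chunk tbl (okRule iv tree) str 10654)) 8 59 = 0 := by decide +kernel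
theorem s60 : sumPow (grd 54985 (chunk tbl (okRule iv tree) str 10654)) 8 60 = 0 := by decide +kernel
theorem s61 : sumPow (grd 54985 (chunk tbl (okRule iv tree) str 10654)) 8 61 = 0 := by decide +kernel
theorem s62 : sumPow (grd 54985 (chunk tbl (okRule iv tree) str 10654)) 8 62 = 0 := by decide +kernel
theorem s63 : sumPow (grd 54985 (chunk tbl (okRule iv tree) str 10654)) 8 63 = 0 := by decide +kernel
theorem s64 : sumPow (grd 54985 (chunk tbl (okRule iv tree) str 10654)) 8 64 = 0 := by decide +kernel
theorem s65 : sumPow (grd 54985 (chunk tbl (okRule iv tree) str 10654)) 8 65 = 0 := by decide +kernel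
theorem s66 : sumPow (grd 54985 (chunk tbl (okRule iv tree) str 10654)) 8 66 = 0 := by decide +kernel
theorem s67 : sumPow (grd 54985 (chunk tbl (okRule iv tree) str 10654)) 8 67 = 0 := by decide +kernel
theorem s68 : sumPow (grd 54985 (chunk tbl (okRule iv tree) str 10654)) 8 68 = 0 := by decide +kernel
theorem s69 : sumPow (grd 54985 (chunk tbl (okRule iv tree) str 10654)) 8 69 = 0 := by decide +kernel
theorem s70 : sumPow (grd 54985 (chunk tbl (okRule iv tree) str 10654)) 8 70 = 0 := by decide +kernel

end Cfsg.Agent.H58.F24A
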