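import Cfsg.Agent.H58.Cert.F24AD

set_option autoImplicit false
set_option Elab.async false
set_option maxRecDepth 100000

namespace Cfsg.Agent.H58.F24A

open Cfsg.Agent.H58

theorem s71 : sumPow (grd 54985 (chunk tbl (okRule iv tree) str 10654)) 8 71 = 0 := by decide +kernel
theorem s72 : sumPow (grd 54985 (chunk tbl (okRule iv tree) str 10654)) 8 72 = 0 := by decide +kernel
theorem s73 : sumPow (grd 54985 (chunk tbl (okRule iv tree) str 10654)) 8 73 = 0 := by decide +kernel
theorem s74 : sumPow (grd 54985 (chunk tbl (okRule iv tree) str 10654)) 8 74 = 0 := by decide +kernel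
theorem s75 : sumPow (grd 54985 (chunk tbl (okRule iv tree) str 10654)) 8 75 = 0 := by decide +kernel
theorem s76 : sumPow (grd 54985 (chunk tbl (okRule iv tree) str 10654)) 8 76 = 0 := by decide +kernel
theorem s77 : sumPow (grd 54985 (chunk tbl (okRule iv tree) str 10654)) 8 77 = 0 := by decide +kernel
theorem s78 : sumPow (grd 54985 (chunk tbl (okRule iv tree) str 10654)) 8 78 = 0 := by decide +kernel
theorem s79 : sumPow (grd 54985 (chunk tbl (okRule iv tree) str 10654)) 8 79 = 0 := by decide +kernel
theorem s80 : sumPow (grd 54985 (chunk tbl (okRule iv tree) str 10654)) 8 80 = 0 := by decide +kernel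
theorem s81 : sumPow (grd 54985 (chunk tbl (okRule iv tree) str 10654)) 8 81 = 0 := by decide +kernel
theorem s82 : sumPow (grd 54985 (chunk tbl (okRule iv tree) str 10654)) 8 82 = 0 := by decide +kernel
theorem s83 : sumPow (grd 54985 (chunk tbl (okRule iv tree) str 10654)) 8 83 = 0 := by decide +kernel
theorem s84 : sumPow (grd 54985 (chunk tbl (okRule iv tree) str 10654)) 8 84 = 0 := by decide +kernel
theorem s85 : sumPow (grd 54985 (chunk tbl (okRule iv tree) str 10654)) 8 85 = 0 := by decide +kernel
theorem s86 : sumPow (grd 54985 (chunk tbl (okRule iv tree) str 10654)) 8 86 = 0 := by decide +kernel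
theorem s87 : sumPow (grd 54985 (chunk tbl (okRule iv tree) str 10654)) 8 87 = 0 := by decide +kernel
theorem s88 : sumPow (grd 54985 (chunk tbl (okRule iv tree) str 10654)) 8 88 = 0 := by decide +kernel
theorem s89 : sumPow (grd 54985 (chunk tbl (okRule iv tree) str 10654)) 8 89 = 0 := by decide +kernel
theorem s90 : sumPow (grd 54985 (chunk tbl (okRule iv tree) str 10654)) 8 90 = 0 := by decide +kernel
theorem s91 : sumPow (grd 54985 (chunk tbl (okRule iv tree) str 10654)) 8 91 = 0 := by decide +kernel
theorem s92 : sumPow (grd 54985 (chunk tbl (okRule iv tree) str 10654)) 8 92 = 0 := by decide +kernel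
theorem s93 : sumPow (grd 54985 (chunk tbl (okRule iv tree) str 10654)) 8 93 = 0 := by decide +kernel
theorem s94 : sumPow (grd 54985 (chunk tbl (okRule iv tree) str 10654)) 8 94 = 0 := by decide +kernel
theorem s95 : sumPow (grd 54985 (chunk tbl (okRule iv tree) str 10654)) 8 95 = 0 := by decide +kernel
theorem s96 : sumPow (grd 54985 (chunk tbl (okRule iv tree) str 10654)) 8 96 = 0 := by decide +kernel
theorem s97 : sumPow (grd 54985 (chunk tbl (okRule iv tree) str 10654)) 8 97 = 0 := by decide +kernel
theorem s98 : sumPow (grd 54985 (chunk tbl (okRule iv tree) str 10654)) 8 98 = 0 := by decide +kernel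
theorem s99 : sumPow (grd 54985 (chunk tbl (okRule iv tree) str 10654)) 8 99 = 0 := by decide +kernel
theorem s100 : sumPow (grd 54985 (chunk tbl (okRule iv tree) str 10654)) 8 100 = 0 := by decide +kernel
theorem s101 : sumPow (grd 54985 (chunk tbl (okRule iv tree) str 10654)) 8 101 = 0 := by decide +kernel
theorem s102 : sumPow (grd 54985 (chunk tbl (okRule iv tree) str 10654)) 8 102 = 0 := by decide +kernel
theorem s103 : sumPow (grd 54985 (chunk tbl (okRule iv tree) str 10654)) 8 103 = 0 := by decide +kernel
theorem s104 : sumPow (grd 54985 (chunk tbl (okRule iv tree) str 10654)) 8 104 = 0 := by decide +kernel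
theorem s105 : sumPow (grd 54985 (chunk tbl (okRule iv tree) str 10654)) 8 105 = 0 := by decide +kernel
theorem s106 : sumPow (grd 54985 (chunk tbl (okRule iv tree) str 10654)) 8 106 = 0 := by decide +kernel
theorem s107 : sumPow (grd 54985 (chunk tbl (okRule iv tree) str 10654)) 8 107 = 0 := by decide +kernel
theorem s108 : sumPow (grd 54985 (chunk tbl (okRule iv tree) str 10654)) 8 108 = 0 := by decide +kernel
theorem s109 : sumPow (grd 54985 (chunk tbl (okRule iv tree) str 10654)) 8 109 = 0 := by decide +kernel
theorem s110 : sumPow (grd 54985 (chunk tbl (okRule iv tree) str 10654)) 8 110 = 0 := by decide +kernel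
theorem s111 : sumPow (grd 54985 (chunk tbl (okRule iv tree) str 10654)) 8 111 = 0 := by decide +kernel
theorem s112 : sumPow (grd 54985 (chunk tbl (okRule iv tree) str 10654)) 8 112 = 0 := by decide +kernel
theorem s113 : sumPow (grd 54985 (chunk tbl (okRule iv tree) str 10654)) 8 113 = 0 := by decide +kernel
theorem s114 : sumPow (grd 54985 (chunk tbl (okRule iv tree) str 10654)) 8 114 = 0 := by decide +kernel

end Cfsg.Agent.H58.F24A
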