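import Cfsg.Agent.H58.Cert.F24AD

set_option autoImplicit false
set_option Elab.async false
set_option maxRecDepth 100000

namespace Cfsg.Agent.H58.F24A

open Cfsg.Agent.H58

theorem s115 : sumPow (grd 54985 (chunk tbl (okRule iv tree) str 10654)) 8 115 = 0 := by decide +kernel
theorem s116 : sumPow (grd 54985 (chunk tbl (okRule iv tree) str 10654)) 8 116 = 0 := by decide +kernel
theorem s117 : sumPow (grd 54985 (chunk tbl (okRule iv tree) str 10654)) 8 117 = 0 := by decide +kernel
theorem s118 : sumPow (grd 54985 (chunk tbl (okRule iv tree) str 10654)) 8 118 = 0 := by decide +kernel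
theorem s119 : sumPow (grd 54985 (chunk tbl (okRule iv tree) str 10654)) 8 119 = 0 := by decide +kernel
theorem s120 : sumPow (grd 54985 (chunk tbl (okRule iv tree) str 10654)) 8 120 = 0 := by decide +kernel
theorem s121 : sumPow (grd 54985 (chunk tbl (okRule iv tree) str 10654)) 8 121 = 0 := by decide +kernel
theorem s122 : sumPow (grd 54985 (chunk tbl (okRule iv tree) str 10654)) 8 122 = 0 := by decide +kernel
theorem s123 : sumPow (grd 54985 (chunk tbl (okRule iv tree) str 10654)) 8 123 = 0 := by decide +kernel
theorem s124 : sumPow (grd 54985 (chunk tbl (okRule iv tree) str 10654)) 8 124 = 0 := by decide +kernel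
theorem s125 : sumPow (grd 54985 (chunk tbl (okRule iv tree) str 10654)) 8 125 = 0 := by decide +kernel
theorem s126 : sumPow (grd 54985 (chunk tbl (okRule iv tree) str 10654)) 8 126 = 0 := by decide +kernel
theorem s127 : sumPow (grd 54985 (chunk tbl (okRule iv tree) str 10654)) 8 127 = 0 := by decide +kernel
theorem s128 : sumPow (grd 54985 (chunk tbl (okRule iv tree) str 10654)) 8 128 = 0 := by decide +kernel
theorem s129 : sumPow (grd 54985 (chunk tbl (okRule iv tree) str 10654)) 8 129 = 0 := by decide +kernel
theorem s130 : sumPow (grd 54985 (chunk tbl (okRule iv tree) str 10654)) 8 130 = 0 := by decide +kernel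
theorem s131 : sumPow (grd 54985 (chunk tbl (okRule iv tree) str 10654)) 8 131 = 0 := by decide +kernel
theorem s132 : sumPow (grd 54985 (chunk tbl (okRule iv tree) str 10654)) 8 132 = 0 := by decide +kernel
theorem s133 : sumPow (grd 54985 (chunk tbl (okRule iv tree) str 10654)) 8 133 = 0 := by decide +kernel
theorem s134 : sumPow (grd 54985 (chunk tbl (okRule iv tree) str 10654)) 8 134 = 0 := by decide +kernel
theorem s135 : sumPow (grd 54985 (chunk tbl (okRule iv tree) str 10654)) 8 135 = 0 := by decide +kernel
theorem s136 : sumPow (grd 54985 (chunk tbl (okRule iv tree) str 10654)) 8 136 = 0 := by decide +kernel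
theorem s137 : sumPow (grd 54985 (chunk tbl (okRule iv tree) str 10654)) 8 137 = 0 := by decide +kernel
theorem s138 : sumPow (grd 54985 (chunk tbl (okRule iv tree) str 10654)) 8 138 = 0 := by decide +kernel
theorem s139 : sumPow (grd 54985 (chunk tbl (okRule iv tree) str 10654)) 8 139 = 0 := by decide +kernel
theorem s140 : sumPow (grd 54985 (chunk tbl (okRule iv tree) str 10654)) 8 140 = 0 := by decide +kernel
theorem s141 : sumPow (grd 54985 (chunk tbl (okRule iv tree) str 10654)) 8 141 = 0 := by decide +kernel
theorem s142 : sumPow (grd 54985 (chunk tbl (okRule iv tree) str 10654)) 8 142 = 0 := by decide +kernel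
theorem s143 : sumPow (grd 54985 (chunk tbl (okRule iv tree) str 10654)) 8 143 = 0 := by decide +kernel
theorem s144 : sumPow (grd 54985 (chunk tbl (okRule iv tree) str 10654)) 8 144 = 0 := by decide +kernel
theorem s145 : sumPow (grd 54985 (chunk tbl (okRule iv tree) str 10654)) 8 145 = 0 := by decide +kernel
theorem s146 : sumPow (grd 54985 (chunk tbl (okRule iv tree) str 10654)) 8 146 = 0 := by decide +kernel
theorem s147 : sumPow (grd 54985 (chunk tbl (okRule iv tree) str 10654)) 8 147 = 0 := by decide +kernel
theorem s148 : sumPow (grd 54985 (chunk tbl (okRule iv tree) str 10654)) 8 148 = 0 := by decide +kernel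
theorem s149 : sumPow (grd 54985 (chunk tbl (okRule iv tree) str 10654)) 8 149 = 0 := by decide +kernel
theorem s150 : sumPow (grd 54985 (chunk tbl (okRule iv tree) str 10654)) 8 150 = 0 := by decide +kernel
theorem s151 : sumPow (grd 54985 (chunk tbl (okRule iv tree) str 10654)) 8 151 = 0 := by decide +kernel
theorem s152 : sumPow (grd 54985 (chunk tbl (okRule iv tree) str 10654)) 8 152 = 0 := by decide +kernel
theorem s153 : sumPow (grd 54985 (chunk tbl (okRule iv tree) str 10654)) 8 153 = 0 := by decide +kernel
theorem s154 : sumPow (grd 54985 (chunk tbl (okRule iv tree) str 10654)) 8 154 = 0 := by decide +kernel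
theorem s155 : sumPow (grd 54985 (chunk tbl (okRule iv tree) str 10654)) 8 155 = 0 := by decide +kernel
theorem s156 : sumPow (grd 54985 (chunk tbl (okRule iv tree) str 10654)) 8 156 = 0 := by decide +kernel
theorem s157 : sumPow (grd 54985 (chunk tbl (okRule iv tree) str 10654)) 8 157 = 0 := by decide +kernel
theorem s158 : sumPow (grd 54985 (chunk tbl (okRule iv tree) str 10654)) 8 158 = 0 := by decide +kernel

end Cfsg.Agent.H58.F24A
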