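import Cfsg.Agent.H58.Cert.F24AD

set_option autoImplicit false
set_option Elab.async false
set_option maxRecDepth 100000

namespace Cfsg.Agent.H58.F24A

open Cfsg.Agent.H58

theorem s159 : sumPow (grd 54985 (chunk tbl (okRule iv tree) str 10654)) 8 159 = 0 := by decide +kernel
theorem s160 : sumPow (grd 54985 (chunk tbl (okRule iv tree) str 10654)) 8 160 = 0 := by decide +kernel
theorem s161 : sumPow (grd 54985 (chunk tbl (okRule iv tree) str 10654)) 8 161 = 0 := by decide +kernel
theorem s162 : sumPow (grd 54985 (chunk tbl (okRule iv tree) str 10654)) 8 162 = 0 := by decide +kernel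
theorem s163 : sumPow (grd 54985 (chunk tbl (okRule iv tree) str 10654)) 8 163 = 0 := by decide +kernel
theorem s164 : sumPow (grd 54985 (chunk tbl (okRule iv tree) str 10654)) 8 164 = 0 := by decide +kernel
theorem s165 : sumPow (grd 54985 (chunk tbl (okRule iv tree) str 10654)) 8 165 = 0 := by decide +kernel
theorem s166 : sumPow (grd 54985 (chunk tbl (okRule iv tree) str 10654)) 8 166 = 0 := by decide +kernel
theorem s167 : sumPow (grd 54985 (chunk tbl (okRule iv tree) str 10654)) 8 167 = 0 := by decide +kernel
theorem s168 : sumPow (grd 54985 (chunk tbl (okRule iv tree) str 10654)) 8 168 = 0 := by decide +kernel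
theorem s169 : sumPow (grd 54985 (chunk tbl (okRule iv tree) str 10654)) 8 169 = 0 := by decide +kernel
theorem s170 : sumPow (grd 54985 (chunk tbl (okRule iv tree) str 10654)) 8 170 = 0 := by decide +kernel
theorem s171 : sumPow (grd 54985 (chunk tbl (okRule iv tree) str 10654)) 8 171 = 0 := by decide +kernel
theorem s172 : sumPow (grd 54985 (chunk tbl (okRule iv tree) str 10654)) 8 172 = 0 := by decide +kernel
theorem s173 : sumPow (grd 54985 (chunk tbl (okRule iv tree) str 10654)) 8 173 = 0 := by decide +kernel
theorem s174 : sumPow (grd 54985 (chunk tbl (okRule iv tree) str 10654)) 8 174 = 0 := by decide +kernel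
theorem s175 : sumPow (grd 54985 (chunk tbl (okRule iv tree) str 10654)) 8 175 = 0 := by decide +kernel
theorem s176 : sumPow (grd 54985 (chunk tbl (okRule iv tree) str 10654)) 8 176 = 0 := by decide +kernel
theorem s177 : sumPow (grd 54985 (chunk tbl (okRule iv tree) str 10654)) 8 177 = 0 := by decide +kernel
theorem s178 : sumPow (grd 54985 (chunk tbl (okRule iv tree) str 10654)) 8 178 = 0 := by decide +kernel
theorem s179 : sumPow (grd 54985 (chunk tbl (okRule iv tree) str 10654)) 8 179 = 0 := by decide +kernel
theorem s180 : sumPow (grd 54985 (chunk tbl (okRule iv tree) str 10654)) 8 180 = 0 := by decide +kernel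
theorem s181 : sumPow (grd 54985 (chunk tbl (okRule iv tree) str 10654)) 8 181 = 0 := by decide +kernel
theorem s182 : sumPow (grd 54985 (chunk tbl (okRule iv tree) str 10654)) 8 182 = 0 := by decide +kernel
theorem s183 : sumPow (grd 54985 (chunk tbl (okRule iv tree) str 10654)) 8 183 = 0 := by decide +kernel
theorem s184 : sumPow (grd 54985 (chunk tbl (okRule iv tree) str 10654)) 8 184 = 0 := by decide +kernel
theorem s185 : sumPow (grd 54985 (chunk tbl (okRule iv tree) str 10654)) 8 185 = 0 := by decide +kernel
theorem s186 : sumPow (grd 54985 (chunk tbl (okRule iv tree) str 10654)) 8 186 = 0 := by decide +kernel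
theorem s187 : sumPow (grd 54985 (chunk tbl (okRule iv tree) str 10654)) 8 187 = 0 := by decide +kernel
theorem s188 : sumPow (grd 54985 (chunk tbl (okRule iv tree) str 10654)) 8 188 = 0 := by decide +kernel
theorem s189 : sumPow (grd 54985 (chunk tbl (okRule iv tree) str 10654)) 8 189 = 0 := by decide +kernel
theorem s190 : sumPow (grd 54985 (chunk tbl (okRule iv tree) str 10654)) 8 190 = 0 := by decide +kernel
theorem s191 : sumPow (grd 54985 (chunk tbl (okRule iv tree) str 10654)) 8 191 = 0 := by decide +kernel
theorem s192 : sumPow (grd 54985 (chunk tbl (okRule iv tree) str 10654)) 8 192 = 0 := by decide +kernel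
theorem s193 : sumPow (grd 54985 (chunk tbl (okRule iv tree) str 10654)) 8 193 = 0 := by decide +kernel
theorem s194 : sumPow (grd 54985 (chunk tbl (okRule iv tree) str 10654)) 8 194 = 0 := by decide +kernel
theorem s195 : sumPow (grd 54985 (chunk tbl (okRule iv tree) str 10654)) 8 195 = 0 := by decide +kernel
theorem s196 : sumPow (grd 54985 (chunk tbl (okRule iv tree) str 10654)) 8 196 = 0 := by decide +kernel
theorem s197 : sumPow (grd 54985 (chunk tbl (okRule iv tree) str 10654)) 8 197 = 0 := by decide +kernel
theorem s198 : sumPow (grd 54985 (chunk tbl (okRule iv tree) str 10654)) 8 198 = 0 := by decide +kernel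
theorem s199 : sumPow (grd 54985 (chunk tbl (okRule iv tree) str 10654)) 8 199 = 0 := by decide +kernel
theorem s200 : sumPow (grd 54985 (chunk tbl (okRule iv tree) str 10654)) 8 200 = 0 := by decide +kernel
theorem s201 : sumPow (grd 54985 (chunk tbl (okRule iv tree) str 10654)) 8 201 = 0 := by decide +kernel

end Cfsg.Agent.H58.F24A
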