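import Cfsg.Agent.H58.Cert.F24XD

set_option autoImplicit false
set_option Elab.async false
set_option maxRecDepth 100000

namespace Cfsg.Agent.H58.F24X

open Cfsg.Agent.H58

theorem d0 : sumPow (grd 36926 (defn tbl rnk (okPair iv))) 13 0 = 0 := by decide +kernel
theorem d1 : sumPow (grd 36926 (defn tbl rnk (okPair iv))) 13 1 = 0 := by decide +kernel
theorem d2 : sumPow (grd 36926 (defn tbl rnk (okPair iv))) 13 2 = 0 := by decide +kernel
theorem d3 : sumPow (grd 36926 (defn tbl rnk (okPair iv))) 13 3 = 0 := by decide +kernel
theorem d4 : sumPow (grd 36926 (defn tbl rnk (okPair iv))) 13 4 = 0 := by decide +kernel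
theorem s0 : sumPow (grd 4524 (chunk tbl (okRule iv tree) str 1163)) 7 0 = 0 := by decide +kernel
theorem s1 : sumPow (grd 4524 (chunk tbl (okRule iv tree) str 1163)) 7 1 = 0 := by decide +kernel
theorem s2 : sumPow (grd 4524 (chunk tbl (okRule iv tree) str 1163)) 7 2 = 0 := by decide +kernel
theorem s3 : sumPow (grd 4524 (chunk tbl (okRule iv tree) str 1163)) 7 3 = 0 := by decide +kernel
theorem s4 : sumPow (grd 4524 (chunk tbl (okRule iv tree) str 1163)) 7 4 = 0 := by decide +kernel
theorem s5 : sumPow (grd 4524 (chunk tbl (okRule iv tree) str 1163)) 7 5 = 0 := by decide +kernel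
theorem s6 : sumPow (grd 4524 (chunk tbl (okRule iv tree) str 1163)) 7 6 = 0 := by decide +kernel
theorem s7 : sumPow (grd 4524 (chunk tbl (okRule iv tree) str 1163)) 7 7 = 0 := by decide +kernel
theorem s8 : sumPow (grd 4524 (chunk tbl (okRule iv tree) str 1163)) 7 8 = 0 := by decide +kernel
theorem s9 : sumPow (grd 4524 (chunk tbl (okRule iv tree) str 1163)) 7 9 = 0 := by decide +kernel
theorem s10 : sumPow (grd 4524 (chunk tbl (okRule iv tree) str 1163)) 7 10 = 0 := by decide +kernel
theorem s11 : sumPow (grd 4524 (chunk tbl (okRule iv tree) str 1163)) 7 11 = 0 := by decide +kernel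
theorem s12 : sumPow (grd 4524 (chunk tbl (okRule iv tree) str 1163)) 7 12 = 0 := by decide +kernel
theorem s13 : sumPow (grd 4524 (chunk tbl (okRule iv tree) str 1163)) 7 13 = 0 := by decide +kernel
theorem s14 : sumPow (grd 4524 (chunk tbl (okRule iv tree) str 1163)) 7 14 = 0 := by decide +kernel
theorem s15 : sumPow (grd 4524 (chunk tbl (okRule iv tree) str 1163)) 7 15 = 0 := by decide +kernel
theorem s16 : sumPow (grd 4524 (chunk tbl (okRule iv tree) str 1163)) 7 16 = 0 := by decide +kernel
theorem s17 : sumPow (grd 4524 (chunk tbl (okRule iv tree) str 1163)) 7 17 = 0 := by decide +kernel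
theorem s18 : sumPow (grd 4524 (chunk tbl (okRule iv tree) str 1163)) 7 18 = 0 := by decide +kernel
theorem s19 : sumPow (grd 4524 (chunk tbl (okRule iv tree) str 1163)) 7 19 = 0 := by decide +kernel
theorem s20 : sumPow (grd 4524 (chunk tbl (okRule iv tree) str 1163)) 7 20 = 0 := by decide +kernel
theorem s21 : sumPow (grd 4524 (chunk tbl (okRule iv tree) str 1163)) 7 21 = 0 := by decide +kernel
theorem s22 : sumPow (grd 4524 (chunk tbl (okRule iv tree) str 1163)) 7 22 = 0 := by decide +kernel
theorem s23 : sumPow (grd 4524 (chunk tbl (okRule iv tree) str 1163)) 7 23 = 0 := by decide +kernel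
theorem s24 : sumPow (grd 4524 (chunk tbl (okRule iv tree) str 1163)) 7 24 = 0 := by decide +kernel
theorem s25 : sumPow (grd 4524 (chunk tbl (okRule iv tree) str 1163)) 7 25 = 0 := by decide +kernel
theorem s26 : sumPow (grd 4524 (chunk tbl (okRule iv tree) str 1163)) 7 26 = 0 := by decide +kernel
theorem s27 : sumPow (grd 4524 (chunk tbl (okRule iv tree) str 1163)) 7 27 = 0 := by decide +kernel
theorem s28 : sumPow (grd 4524 (chunk tbl (okRule iv tree) str 1163)) 7 28 = 0 := by decide +kernel
theorem s29 : sumPow (grd 4524 (chunk tbl (okRule iv tree) str 1163)) 7 29 = 0 := by decide +kernel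
theorem s30 : sumPow (grd 4524 (chunk tbl (okRule iv tree) str 1163)) 7 30 = 0 := by decide +kernel
theorem s31 : sumPow (grd 4524 (chunk tbl (okRule iv tree) str 1163)) 7 31 = 0 := by decide +kernel
theorem s32 : sumPow (grd 4524 (chunk tbl (okRule iv tree) str 1163)) 7 32 = 0 := by decide +kernel
theorem s33 : sumPow (grd 4524 (chunk tbl (okRule iv tree) str 1163)) 7 33 = 0 := by decide +kernel
theorem s34 : sumPow (grd 4524 (chunk tbl (okRule iv tree) str 1163)) 7 34 = 0 := by decide +kernel
theorem s35 : sumPow (grd 4524 (chunk tbl (okRule iv tree) str 1163)) 7 35 = 0 := by decide +kernel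
theorem c0 : sumPow (clchunk tbl clo 363967 1819583 9 27606989912299842952895841298099086971377918417102450304936474564362241) 8 0 = 0 := by decide +kernel
theorem c1 : sumPow (clchunk tbl clo 363967 1819583 9 27606989912299842952895841298099086971377918417102450304936474564362241) 8 1 = 0 := by decide +kernel
theorem c2 : sumPow (clchunk tbl clo 363967 1819583 9 27606989912299842952895841298099086971377918417102450304936474564362241) 8 2 = 0 := by decide +kernel
theorem c3 : sumPow (clchunk tbl clo 363967 1819583 9 27606989912299842952895841298099086971377918417102450304936474564362241) 8 3 = 0 := by decide +kernel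
theorem c4 : sumPow (clchunk tbl clo 363967 1819583 9 27606989912299842952895841298099086971377918417102450304936474564362241) 8 4 = 0 := by decide +kernel
theorem c5 : sumPow (clchunk tbl clo 363967 1819583 9 27606989912299842952895841298099086971377918417102450304936474564362241) 8 5 = 0 := by decide +kernel
theorem c6 : sumPow (clchunk tbl clo 363967 1819583 9 27606989912299842952895841298099086971377918417102450304936474564362241) 8 6 = 0 := by decide +kernel
theorem c7 : sumPow (clchunk tbl clo 363967 1819583 9 27606989912299842952895841298099086971377918417102450304936474564362241) 8 7 = 0 := by decide +kernel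
theorem c8 : sumPow (clchunk tbl clo 363967 1819583 9 27606989912299842952895841298099086971377918417102450304936474564362241) 8 8 = 0 := by decide +kernel
theorem c9 : sumPow (clchunk tbl clo 363967 1819583 9 27606989912299842952895841298099086971377918417102450304936474564362241) 8 9 = 0 := by decide +kernel
theorem c10 : sumPow (clchunk tbl clo 363967 1819583 9 27606989912299842952895841298099086971377918417102450304936474564362241) 8 10 = 0 := by decide +kernel
theorem c11 : sumPow (clchunk tbl clo 363967 1819583 9 27606989912299842952895841298099086971377918417102450304936474564362241) 8 11 = 0 := by decide +kernel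
theorem c12 : sumPow (clchunk tbl clo 363967 1819583 9 27606989912299842952895841298099086971377918417102450304936474564362241) 8 12 = 0 := by decide +kernel
theorem c13 : sumPow (clchunk tbl clo 363967 1819583 9 27606989912299842952895841298099086971377918417102450304936474564362241) 8 13 = 0 := by decide +kernel

end Cfsg.Agent.H58.F24X
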