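import Cfsg.Agent.H58.Cert.ON1D

set_option autoImplicit false
set_option Elab.async false
set_option maxRecDepth 100000

namespace Cfsg.Agent.H58.ON1

open Cfsg.Agent.H58

theorem d0 : sumPow (grd 156275 (defn tbl rnk (okPair iv))) 13 0 = 0 := by decide +kernel
theorem d1 : sumPow (grd 156275 (defn tbl rnk (okPair iv))) 13 1 = 0 := by decide +kernel
theorem d2 : sumPow (grd 156275 (defn tbl rnk (okPair iv))) 13 2 = 0 := by decide +kernel
theorem d3 : sumPow (grd 156275 (defn tbl rnk (okPair iv))) 13 3 = 0 := by decide +kernel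
theorem d4 : sumPow (grd 156275 (defn tbl rnk (okPair iv))) 13 4 = 0 := by decide +kernel
theorem d5 : sumPow (grd 156275 (defn tbl rnk (okPair iv))) 13 5 = 0 := by decide +kernel
theorem d6 : sumPow (grd 156275 (defn tbl rnk (okPair iv))) 13 6 = 0 := by decide +kernel
theorem d7 : sumPow (grd 156275 (defn tbl rnk (okPair iv))) 13 7 = 0 := by decide +kernel
theorem d8 : sumPow (grd 156275 (defn tbl rnk (okPair iv))) 13 8 = 0 := by decide +kernel
theorem d9 : sumPow (grd 156275 (defn tbl rnk (okPair iv))) 13 9 = 0 := by decide +kernel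
theorem d10 : sumPow (grd 156275 (defn tbl rnk (okPair iv))) 13 10 = 0 := by decide +kernel
theorem d11 : sumPow (grd 156275 (defn tbl rnk (okPair iv))) 13 11 = 0 := by decide +kernel
theorem d12 : sumPow (grd 156275 (defn tbl rnk (okPair iv))) 13 12 = 0 := by decide +kernel
theorem d13 : sumPow (grd 156275 (defn tbl rnk (okPair iv))) 13 13 = 0 := by decide +kernel
theorem d14 : sumPow (grd 156275 (defn tbl rnk (okPair iv))) 13 14 = 0 := by decide +kernel
theorem d15 : sumPow (grd 156275 (defn tbl rnk (okPair iv))) 13 15 = 0 := by decide +kernel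
theorem d16 : sumPow (grd 156275 (defn tbl rnk (okPair iv))) 13 16 = 0 := by decide +kernel
theorem d17 : sumPow (grd 156275 (defn tbl rnk (okPair iv))) 13 17 = 0 := by decide +kernel
theorem d18 : sumPow (grd 156275 (defn tbl rnk (okPair iv))) 13 18 = 0 := by decide +kernel
theorem d19 : sumPow (grd 156275 (defn tbl rnk (okPair iv))) 13 19 = 0 := by decide +kernel
theorem s0 : sumPow (grd 13022 (chunk tbl (okRule iv tree) str 4892)) 6 0 = 0 := by decide +kernel
theorem s1 : sumPow (grd 13022 (chunk tbl (okRule iv tree) str 4892)) 6 1 = 0 := by decide +kernel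
theorem s2 : sumPow (grd 13022 (chunk tbl (okRule iv tree) str 4892)) 6 2 = 0 := by decide +kernel
theorem s3 : sumPow (grd 13022 (chunk tbl (okRule iv tree) str 4892)) 6 3 = 0 := by decide +kernel
theorem s4 : sumPow (grd 13022 (chunk tbl (okRule iv tree) str 4892)) 6 4 = 0 := by decide +kernel
theorem s5 : sumPow (grd 13022 (chunk tbl (okRule iv tree) str 4892)) 6 5 = 0 := by decide +kernel
theorem s6 : sumPow (grd 13022 (chunk tbl (okRule iv tree) str 4892)) 6 6 = 0 := by decide +kernel
theorem s7 : sumPow (grd 13022 (chunk tbl (okRule iv tree) str 4892)) 6 7 = 0 := by decide +kernel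
theorem s8 : sumPow (grd 13022 (chunk tbl (okRule iv tree) str 4892)) 6 8 = 0 := by decide +kernel
theorem s9 : sumPow (grd 13022 (chunk tbl (okRule iv tree) str 4892)) 6 9 = 0 := by decide +kernel
theorem s10 : sumPow (grd 13022 (chunk tbl (okRule iv tree) str 4892)) 6 10 = 0 := by decide +kernel
theorem s11 : sumPow (grd 13022 (chunk tbl (okRule iv tree) str 4892)) 6 11 = 0 := by decide +kernel
theorem s12 : sumPow (grd 13022 (chunk tbl (okRule iv tree) str 4892)) 6 12 = 0 := by decide +kernel
theorem s13 : sumPow (grd 13022 (chunk tbl (okRule iv tree) str 4892)) 6 13 = 0 := by decide +kernel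
theorem s14 : sumPow (grd 13022 (chunk tbl (okRule iv tree) str 4892)) 6 14 = 0 := by decide +kernel
theorem s15 : sumPow (grd 13022 (chunk tbl (okRule iv tree) str 4892)) 6 15 = 0 := by decide +kernel
theorem s16 : sumPow (grd 13022 (chunk tbl (okRule iv tree) str 4892)) 6 16 = 0 := by decide +kernel
theorem s17 : sumPow (grd 13022 (chunk tbl (okRule iv tree) str 4892)) 6 17 = 0 := by decide +kernel
theorem s18 : sumPow (grd 13022 (chunk tbl (okRule iv tree) str 4892)) 6 18 = 0 := by decide +kernel
theorem s19 : sumPow (grd 13022 (chunk tbl (okRule iv tree) str 4892)) 6 19 = 0 := by decide +kernel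
theorem s20 : sumPow (grd 13022 (chunk tbl (okRule iv tree) str 4892)) 6 20 = 0 := by decide +kernel
theorem s21 : sumPow (grd 13022 (chunk tbl (okRule iv tree) str 4892)) 6 21 = 0 := by decide +kernel
theorem s22 : sumPow (grd 13022 (chunk tbl (okRule iv tree) str 4892)) 6 22 = 0 := by decide +kernel
theorem s23 : sumPow (grd 13022 (chunk tbl (okRule iv tree) str 4892)) 6 23 = 0 := by decide +kernel
theorem s24 : sumPow (grd 13022 (chunk tbl (okRule iv tree) str 4892)) 6 24 = 0 := by decide +kernel
theorem s25 : sumPow (grd 13022 (chunk tbl (okRule iv tree) str 4892)) 6 25 = 0 := by decide +kernel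
theorem s26 : sumPow (grd 13022 (chunk tbl (okRule iv tree) str 4892)) 6 26 = 0 := by decide +kernel
theorem s27 : sumPow (grd 13022 (chunk tbl (okRule iv tree) str 4892)) 6 27 = 0 := by decide +kernel
theorem s28 : sumPow (grd 13022 (chunk tbl (okRule iv tree) str 4892)) 6 28 = 0 := by decide +kernel
theorem s29 : sumPow (grd 13022 (chunk tbl (okRule iv tree) str 4892)) 6 29 = 0 := by decide +kernel
theorem s30 : sumPow (grd 13022 (chunk tbl (okRule iv tree) str 4892)) 6 30 = 0 := by decide +kernel
theorem s31 : sumPow (grd 13022 (chunk tbl (okRule iv tree) str 4892)) 6 31 = 0 := by decide +kernel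
theorem s32 : sumPow (grd 13022 (chunk tbl (okRule iv tree) str 4892)) 6 32 = 0 := by decide +kernel
theorem s33 : sumPow (grd 13022 (chunk tbl (okRule iv tree) str 4892)) 6 33 = 0 := by decide +kernel
theorem s34 : sumPow (grd 13022 (chunk tbl (okRule iv tree) str 4892)) 6 34 = 0 := by decide +kernel
theorem s35 : sumPow (grd 13022 (chunk tbl (okRule iv tree) str 4892)) 6 35 = 0 := by decide +kernel
theorem s36 : sumPow (grd 13022 (chunk tbl (okRule iv tree) str 4892)) 6 36 = 0 := by decide +kernel
theorem s37 : sumPow (grd 13022 (chunk tbl (okRule iv tree) str 4892)) 6 37 = 0 := by decide +kernel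
theorem s38 : sumPow (grd 13022 (chunk tbl (okRule iv tree) str 4892)) 6 38 = 0 := by decide +kernel
theorem s39 : sumPow (grd 13022 (chunk tbl (okRule iv tree) str 4892)) 6 39 = 0 := by decide +kernel
theorem s40 : sumPow (grd 13022 (chunk tbl (okRule iv tree) str 4892)) 6 40 = 0 := by decide +kernel
theorem s41 : sumPow (grd 13022 (chunk tbl (okRule iv tree) str 4892)) 6 41 = 0 := by decide +kernel
theorem s42 : sumPow (grd 13022 (chunk tbl (okRule iv tree) str 4892)) 6 42 = 0 := by decide +kernel
theorem s43 : sumPow (grd 13022 (chunk tbl (okRule iv tree) str 4892)) 6 43 = 0 := by decide +kernel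
theorem s44 : sumPow (grd 13022 (chunk tbl (okRule iv tree) str 4892)) 6 44 = 0 := by decide +kernel
theorem s45 : sumPow (grd 13022 (chunk tbl (okRule iv tree) str 4892)) 6 45 = 0 := by decide +kernel
theorem s46 : sumPow (grd 13022 (chunk tbl (okRule iv tree) str 4892)) 6 46 = 0 := by decide +kernel
theorem s47 : sumPow (grd 13022 (chunk tbl (okRule iv tree) str 4892)) 6 47 = 0 := by decide +kernel
theorem s48 : sumPow (grd 13022 (chunk tbl (okRule iv tree) str 4892)) 6 48 = 0 := by decide +kernel
theorem s49 : sumPow (grd 13022 (chunk tbl (okRule iv tree) str 4892)) 6 49 = 0 := by decide +kernel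
theorem s50 : sumPow (grd 13022 (chunk tbl (okRule iv tree) str 4892)) 6 50 = 0 := by decide +kernel
theorem s51 : sumPow (grd 13022 (chunk tbl (okRule iv tree) str 4892)) 6 51 = 0 := by decide +kernel
theorem s52 : sumPow (grd 13022 (chunk tbl (okRule iv tree) str 4892)) 6 52 = 0 := by decide +kernel
theorem s53 : sumPow (grd 13022 (chunk tbl (okRule iv tree) str 4892)) 6 53 = 0 := by decide +kernel
theorem s54 : sumPow (grd 13022 (chunk tbl (okRule iv tree) str 4892)) 6 54 = 0 := by decide +kernel

end Cfsg.Agent.H58.ON1
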