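import Cfsg.Agent.H58.Cert.ON1D

set_option autoImplicit false
set_option Elab.async false
set_option maxRecDepth 100000

namespace Cfsg.Agent.H58.ON1

open Cfsg.Agent.H58

theorem s55 : sumPow (grd 13022 (chunk tbl (okRule iv tree) str 4892)) 6 55 = 0 := by decide +kernel
theorem s56 : sumPow (grd 13022 (chunk tbl (okRule iv tree) str 4892)) 6 56 = 0 := by decide +kernel
theorem s57 : sumPow (grd 13022 (chunk tbl (okRule iv tree) str 4892)) 6 57 = 0 := by decide +kernel
theorem s58 : sumPow (grd 13022 (chunk tbl (okRule iv tree) str 4892)) 6 58 = 0 := by decide +kernel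
theorem s59 : sumPow (grd 13022 (chunk tbl (okRule iv tree) str 4892)) 6 59 = 0 := by decide +kernel
theorem s60 : sumPow (grd 13022 (chunk tbl (okRule iv tree) str 4892)) 6 60 = 0 := by decide +kernel
theorem s61 : sumPow (grd 13022 (chunk tbl (okRule iv tree) str 4892)) 6 61 = 0 := by decide +kernel
theorem s62 : sumPow (grd 13022 (chunk tbl (okRule iv tree) str 4892)) 6 62 = 0 := by decide +kernel
theorem s63 : sumPow (grd 13022 (chunk tbl (okRule iv tree) str 4892)) 6 63 = 0 := by decide +kernel
theorem s64 : sumPow (grd 13022 (chunk tbl (okRule iv tree) str 4892)) 6 64 = 0 := by decide +kernel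
theorem s65 : sumPow (grd 13022 (chunk tbl (okRule iv tree) str 4892)) 6 65 = 0 := by decide +kernel
theorem s66 : sumPow (grd 13022 (chunk tbl (okRule iv tree) str 4892)) 6 66 = 0 := by decide +kernel
theorem s67 : sumPow (grd 13022 (chunk tbl (okRule iv tree) str 4892)) 6 67 = 0 := by decide +kernel
theorem s68 : sumPow (grd 13022 (chunk tbl (okRule iv tree) str 4892)) 6 68 = 0 := by decide +kernel
theorem s69 : sumPow (grd 13022 (chunk tbl (okRule iv tree) str 4892)) 6 69 = 0 := by decide +kernel
theorem s70 : sumPow (grd 13022 (chunk tbl (okRule iv tree) str 4892)) 6 70 = 0 := by decide +kernel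
theorem s71 : sumPow (grd 13022 (chunk tbl (okRule iv tree) str 4892)) 6 71 = 0 := by decide +kernel
theorem s72 : sumPow (grd 13022 (chunk tbl (okRule iv tree) str 4892)) 6 72 = 0 := by decide +kernel
theorem s73 : sumPow (grd 13022 (chunk tbl (okRule iv tree) str 4892)) 6 73 = 0 := by decide +kernel
theorem s74 : sumPow (grd 13022 (chunk tbl (okRule iv tree) str 4892)) 6 74 = 0 := by decide +kernel
theorem s75 : sumPow (grd 13022 (chunk tbl (okRule iv tree) str 4892)) 6 75 = 0 := by decide +kernel
theorem s76 : sumPow (grd 13022 (chunk tbl (okRule iv tree) str 4892)) 6 76 = 0 := by decide +kernel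
theorem s77 : sumPow (grd 13022 (chunk tbl (okRule iv tree) str 4892)) 6 77 = 0 := by decide +kernel
theorem s78 : sumPow (grd 13022 (chunk tbl (okRule iv tree) str 4892)) 6 78 = 0 := by decide +kernel
theorem s79 : sumPow (grd 13022 (chunk tbl (okRule iv tree) str 4892)) 6 79 = 0 := by decide +kernel
theorem s80 : sumPow (grd 13022 (chunk tbl (okRule iv tree) str 4892)) 6 80 = 0 := by decide +kernel
theorem s81 : sumPow (grd 13022 (chunk tbl (okRule iv tree) str 4892)) 6 81 = 0 := by decide +kernel
theorem s82 : sumPow (grd 13022 (chunk tbl (okRule iv tree) str 4892)) 6 82 = 0 := by decide +kernel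
theorem s83 : sumPow (grd 13022 (chunk tbl (okRule iv tree) str 4892)) 6 83 = 0 := by decide +kernel
theorem s84 : sumPow (grd 13022 (chunk tbl (okRule iv tree) str 4892)) 6 84 = 0 := by decide +kernel
theorem s85 : sumPow (grd 13022 (chunk tbl (okRule iv tree) str 4892)) 6 85 = 0 := by decide +kernel
theorem s86 : sumPow (grd 13022 (chunk tbl (okRule iv tree) str 4892)) 6 86 = 0 := by decide +kernel
theorem s87 : sumPow (grd 13022 (chunk tbl (okRule iv tree) str 4892)) 6 87 = 0 := by decide +kernel
theorem s88 : sumPow (grd 13022 (chunk tbl (okRule iv tree) str 4892)) 6 88 = 0 := by decide +kernel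
theorem s89 : sumPow (grd 13022 (chunk tbl (okRule iv tree) str 4892)) 6 89 = 0 := by decide +kernel
theorem s90 : sumPow (grd 13022 (chunk tbl (okRule iv tree) str 4892)) 6 90 = 0 := by decide +kernel
theorem s91 : sumPow (grd 13022 (chunk tbl (okRule iv tree) str 4892)) 6 91 = 0 := by decide +kernel
theorem s92 : sumPow (grd 13022 (chunk tbl (okRule iv tree) str 4892)) 6 92 = 0 := by decide +kernel
theorem s93 : sumPow (grd 13022 (chunk tbl (okRule iv tree) str 4892)) 6 93 = 0 := by decide +kernel
theorem s94 : sumPow (grd 13022 (chunk tbl (okRule iv tree) str 4892)) 6 94 = 0 := by decide +kernel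
theorem s95 : sumPow (grd 13022 (chunk tbl (okRule iv tree) str 4892)) 6 95 = 0 := by decide +kernel
theorem s96 : sumPow (grd 13022 (chunk tbl (okRule iv tree) str 4892)) 6 96 = 0 := by decide +kernel
theorem s97 : sumPow (grd 13022 (chunk tbl (okRule iv tree) str 4892)) 6 97 = 0 := by decide +kernel
theorem s98 : sumPow (grd 13022 (chunk tbl (okRule iv tree) str 4892)) 6 98 = 0 := by decide +kernel
theorem s99 : sumPow (grd 13022 (chunk tbl (okRule iv tree) str 4892)) 6 99 = 0 := by decide +kernel
theorem s100 : sumPow (grd 13022 (chunk tbl (okRule iv tree) str 4892)) 6 100 = 0 := by decide +kernel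
theorem s101 : sumPow (grd 13022 (chunk tbl (okRule iv tree) str 4892)) 6 101 = 0 := by decide +kernel
theorem s102 : sumPow (grd 13022 (chunk tbl (okRule iv tree) str 4892)) 6 102 = 0 := by decide +kernel
theorem s103 : sumPow (grd 13022 (chunk tbl (okRule iv tree) str 4892)) 6 103 = 0 := by decide +kernel
theorem s104 : sumPow (grd 13022 (chunk tbl (okRule iv tree) str 4892)) 6 104 = 0 := by decide +kernel
theorem s105 : sumPow (grd 13022 (chunk tbl (okRule iv tree) str 4892)) 6 105 = 0 := by decide +kernel
theorem s106 : sumPow (grd 13022 (chunk tbl (okRule iv tree) str 4892)) 6 106 = 0 := by decide +kernel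
theorem s107 : sumPow (grd 13022 (chunk tbl (okRule iv tree) str 4892)) 6 107 = 0 := by decide +kernel
theorem s108 : sumPow (grd 13022 (chunk tbl (okRule iv tree) str 4892)) 6 108 = 0 := by decide +kernel
theorem s109 : sumPow (grd 13022 (chunk tbl (okRule iv tree) str 4892)) 6 109 = 0 := by decide +kernel
theorem s110 : sumPow (grd 13022 (chunk tbl (okRule iv tree) str 4892)) 6 110 = 0 := by decide +kernel
theorem s111 : sumPow (grd 13022 (chunk tbl (okRule iv tree) str 4892)) 6 111 = 0 := by decide +kernel
theorem s112 : sumPow (grd 13022 (chunk tbl (okRule iv tree) str 4892)) 6 112 = 0 := by decide +kernel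
theorem s113 : sumPow (grd 13022 (chunk tbl (okRule iv tree) str 4892)) 6 113 = 0 := by decide +kernel
theorem s114 : sumPow (grd 13022 (chunk tbl (okRule iv tree) str 4892)) 6 114 = 0 := by decide +kernel
theorem s115 : sumPow (grd 13022 (chunk tbl (okRule iv tree) str 4892)) 6 115 = 0 := by decide +kernel
theorem s116 : sumPow (grd 13022 (chunk tbl (okRule iv tree) str 4892)) 6 116 = 0 := by decide +kernel
theorem s117 : sumPow (grd 13022 (chunk tbl (okRule iv tree) str 4892)) 6 117 = 0 := by decide +kernel
theorem s118 : sumPow (grd 13022 (chunk tbl (okRule iv tree) str 4892)) 6 118 = 0 := by decide +kernel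
theorem s119 : sumPow (grd 13022 (chunk tbl (okRule iv tree) str 4892)) 6 119 = 0 := by decide +kernel
theorem s120 : sumPow (grd 13022 (chunk tbl (okRule iv tree) str 4892)) 6 120 = 0 := by decide +kernel
theorem s121 : sumPow (grd 13022 (chunk tbl (okRule iv tree) str 4892)) 6 121 = 0 := by decide +kernel
theorem s122 : sumPow (grd 13022 (chunk tbl (okRule iv tree) str 4892)) 6 122 = 0 := by decide +kernel
theorem s123 : sumPow (grd 13022 (chunk tbl (okRule iv tree) str 4892)) 6 123 = 0 := by decide +kernel
theorem s124 : sumPow (grd 13022 (chunk tbl (okRule iv tree) str 4892)) 6 124 = 0 := by decide +kernel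
theorem s125 : sumPow (grd 13022 (chunk tbl (okRule iv tree) str 4892)) 6 125 = 0 := by decide +kernel
theorem s126 : sumPow (grd 13022 (chunk tbl (okRule iv tree) str 4892)) 6 126 = 0 := by decide +kernel
theorem s127 : sumPow (grd 13022 (chunk tbl (okRule iv tree) str 4892)) 6 127 = 0 := by decide +kernel
theorem s128 : sumPow (grd 13022 (chunk tbl (okRule iv tree) str 4892)) 6 128 = 0 := by decide +kernel
theorem s129 : sumPow (grd 13022 (chunk tbl (okRule iv tree) str 4892)) 6 129 = 0 := by decide +kernel
theorem s130 : sumPow (grd 13022 (chunk tbl (okRule iv tree) str 4892)) 6 130 = 0 := by decide +kernel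
theorem s131 : sumPow (grd 13022 (chunk tbl (okRule iv tree) str 4892)) 6 131 = 0 := by decide +kernel
theorem s132 : sumPow (grd 13022 (chunk tbl (okRule iv tree) str 4892)) 6 132 = 0 := by decide +kernel
theorem s133 : sumPow (grd 13022 (chunk tbl (okRule iv tree) str 4892)) 6 133 = 0 := by decide +kernel

end Cfsg.Agent.H58.ON1
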