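import Cfsg.Agent.H58.Cert.ON1D

set_option autoImplicit false
set_option Elab.async false
set_option maxRecDepth 100000

namespace Cfsg.Agent.H58.ON1

open Cfsg.Agent.H58

theorem s134 : sumPow (grd 13022 (chunk tbl (okRule iv tree) str 4892)) 6 134 = 0 := by decide +kernel
theorem s135 : sumPow (grd 13022 (chunk tbl (okRule iv tree) str 4892)) 6 135 = 0 := by decide +kernel
theorem s136 : sumPow (grd 13022 (chunk tbl (okRule iv tree) str 4892)) 6 136 = 0 := by decide +kernel
theorem s137 : sumPow (grd 13022 (chunk tbl (okRule iv tree) str 4892)) 6 137 = 0 := by decide +kernel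
theorem s138 : sumPow (grd 13022 (chunk tbl (okRule iv tree) str 4892)) 6 138 = 0 := by decide +kernel
theorem s139 : sumPow (grd 13022 (chunk tbl (okRule iv tree) str 4892)) 6 139 = 0 := by decide +kernel
theorem s140 : sumPow (grd 13022 (chunk tbl (okRule iv tree) str 4892)) 6 140 = 0 := by decide +kernel
theorem s141 : sumPow (grd 13022 (chunk tbl (okRule iv tree) str 4892)) 6 141 = 0 := by decide +kernel
theorem s142 : sumPow (grd 13022 (chunk tbl (okRule iv tree) str 4892)) 6 142 = 0 := by decide +kernel
theorem s143 : sumPow (grd 13022 (chunk tbl (okRule iv tree) str 4892)) 6 143 = 0 := by decide +kernel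
theorem s144 : sumPow (grd 13022 (chunk tbl (okRule iv tree) str 4892)) 6 144 = 0 := by decide +kernel
theorem s145 : sumPow (grd 13022 (chunk tbl (okRule iv tree) str 4892)) 6 145 = 0 := by decide +kernel
theorem s146 : sumPow (grd 13022 (chunk tbl (okRule iv tree) str 4892)) 6 146 = 0 := by decide +kernel
theorem s147 : sumPow (grd 13022 (chunk tbl (okRule iv tree) str 4892)) 6 147 = 0 := by decide +kernel
theorem s148 : sumPow (grd 13022 (chunk tbl (okRule iv tree) str 4892)) 6 148 = 0 := by decide +kernel
theorem s149 : sumPow (grd 13022 (chunk tbl (okRule iv tree) str 4892)) 6 149 = 0 := by decide +kernel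
theorem s150 : sumPow (grd 13022 (chunk tbl (okRule iv tree) str 4892)) 6 150 = 0 := by decide +kernel
theorem s151 : sumPow (grd 13022 (chunk tbl (okRule iv tree) str 4892)) 6 151 = 0 := by decide +kernel
theorem s152 : sumPow (grd 13022 (chunk tbl (okRule iv tree) str 4892)) 6 152 = 0 := by decide +kernel
theorem s153 : sumPow (grd 13022 (chunk tbl (okRule iv tree) str 4892)) 6 153 = 0 := by decide +kernel
theorem s154 : sumPow (grd 13022 (chunk tbl (okRule iv tree) str 4892)) 6 154 = 0 := by decide +kernel
theorem s155 : sumPow (grd 13022 (chunk tbl (okRule iv tree) str 4892)) 6 155 = 0 := by decide +kernel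
theorem s156 : sumPow (grd 13022 (chunk tbl (okRule iv tree) str 4892)) 6 156 = 0 := by decide +kernel
theorem s157 : sumPow (grd 13022 (chunk tbl (okRule iv tree) str 4892)) 6 157 = 0 := by decide +kernel
theorem s158 : sumPow (grd 13022 (chunk tbl (okRule iv tree) str 4892)) 6 158 = 0 := by decide +kernel
theorem s159 : sumPow (grd 13022 (chunk tbl (okRule iv tree) str 4892)) 6 159 = 0 := by decide +kernel
theorem s160 : sumPow (grd 13022 (chunk tbl (okRule iv tree) str 4892)) 6 160 = 0 := by decide +kernel
theorem s161 : sumPow (grd 13022 (chunk tbl (okRule iv tree) str 4892)) 6 161 = 0 := by decide +kernel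
theorem s162 : sumPow (grd 13022 (chunk tbl (okRule iv tree) str 4892)) 6 162 = 0 := by decide +kernel
theorem s163 : sumPow (grd 13022 (chunk tbl (okRule iv tree) str 4892)) 6 163 = 0 := by decide +kernel
theorem s164 : sumPow (grd 13022 (chunk tbl (okRule iv tree) str 4892)) 6 164 = 0 := by decide +kernel
theorem s165 : sumPow (grd 13022 (chunk tbl (okRule iv tree) str 4892)) 6 165 = 0 := by decide +kernel
theorem s166 : sumPow (grd 13022 (chunk tbl (okRule iv tree) str 4892)) 6 166 = 0 := by decide +kernel
theorem s167 : sumPow (grd 13022 (chunk tbl (okRule iv tree) str 4892)) 6 167 = 0 := by decide +kernel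
theorem s168 : sumPow (grd 13022 (chunk tbl (okRule iv tree) str 4892)) 6 168 = 0 := by decide +kernel
theorem s169 : sumPow (grd 13022 (chunk tbl (okRule iv tree) str 4892)) 6 169 = 0 := by decide +kernel
theorem s170 : sumPow (grd 13022 (chunk tbl (okRule iv tree) str 4892)) 6 170 = 0 := by decide +kernel
theorem s171 : sumPow (grd 13022 (chunk tbl (okRule iv tree) str 4892)) 6 171 = 0 := by decide +kernel
theorem s172 : sumPow (grd 13022 (chunk tbl (okRule iv tree) str 4892)) 6 172 = 0 := by decide +kernel
theorem s173 : sumPow (grd 13022 (chunk tbl (okRule iv tree) str 4892)) 6 173 = 0 := by decide +kernel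
theorem s174 : sumPow (grd 13022 (chunk tbl (okRule iv tree) str 4892)) 6 174 = 0 := by decide +kernel
theorem s175 : sumPow (grd 13022 (chunk tbl (okRule iv tree) str 4892)) 6 175 = 0 := by decide +kernel
theorem s176 : sumPow (grd 13022 (chunk tbl (okRule iv tree) str 4892)) 6 176 = 0 := by decide +kernel
theorem s177 : sumPow (grd 13022 (chunk tbl (okRule iv tree) str 4892)) 6 177 = 0 := by decide +kernel
theorem s178 : sumPow (grd 13022 (chunk tbl (okRule iv tree) str 4892)) 6 178 = 0 := by decide +kernel
theorem s179 : sumPow (grd 13022 (chunk tbl (okRule iv tree) str 4892)) 6 179 = 0 := by decide +kernel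
theorem s180 : sumPow (grd 13022 (chunk tbl (okRule iv tree) str 4892)) 6 180 = 0 := by decide +kernel
theorem s181 : sumPow (grd 13022 (chunk tbl (okRule iv tree) str 4892)) 6 181 = 0 := by decide +kernel
theorem s182 : sumPow (grd 13022 (chunk tbl (okRule iv tree) str 4892)) 6 182 = 0 := by decide +kernel
theorem s183 : sumPow (grd 13022 (chunk tbl (okRule iv tree) str 4892)) 6 183 = 0 := by decide +kernel
theorem s184 : sumPow (grd 13022 (chunk tbl (okRule iv tree) str 4892)) 6 184 = 0 := by decide +kernel
theorem s185 : sumPow (grd 13022 (chunk tbl (okRule iv tree) str 4892)) 6 185 = 0 := by decide +kernel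
theorem s186 : sumPow (grd 13022 (chunk tbl (okRule iv tree) str 4892)) 6 186 = 0 := by decide +kernel
theorem s187 : sumPow (grd 13022 (chunk tbl (okRule iv tree) str 4892)) 6 187 = 0 := by decide +kernel
theorem s188 : sumPow (grd 13022 (chunk tbl (okRule iv tree) str 4892)) 6 188 = 0 := by decide +kernel
theorem s189 : sumPow (grd 13022 (chunk tbl (okRule iv tree) str 4892)) 6 189 = 0 := by decide +kernel
theorem s190 : sumPow (grd 13022 (chunk tbl (okRule iv tree) str 4892)) 6 190 = 0 := by decide +kernel
theorem s191 : sumPow (grd 13022 (chunk tbl (okRule iv tree) str 4892)) 6 191 = 0 := by decide +kernel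
theorem s192 : sumPow (grd 13022 (chunk tbl (okRule iv tree) str 4892)) 6 192 = 0 := by decide +kernel
theorem s193 : sumPow (grd 13022 (chunk tbl (okRule iv tree) str 4892)) 6 193 = 0 := by decide +kernel
theorem s194 : sumPow (grd 13022 (chunk tbl (okRule iv tree) str 4892)) 6 194 = 0 := by decide +kernel
theorem s195 : sumPow (grd 13022 (chunk tbl (okRule iv tree) str 4892)) 6 195 = 0 := by decide +kernel
theorem s196 : sumPow (grd 13022 (chunk tbl (okRule iv tree) str 4892)) 6 196 = 0 := by decide +kernel

end Cfsg.Agent.H58.ON1
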