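import Cfsg.Agent.H58.TCPres
import Cfsg.Agent.H58.Cert.ON1C0
import Cfsg.Agent.H58.Cert.ON1C1
import Cfsg.Agent.H58.Cert.ON1C2
import Cfsg.Agent.H58.Cert.ON1C3

set_option autoImplicit false
set_option maxRecDepth 100000

namespace Cfsg.Agent.H58.ON1

open Cfsg.Agent.H58

noncomputable def C : Cert := ⟨tbl, rnk, str, clo, tree, 156275, 13, 4892, 13022, [1, 2, 3, 4, 5, 6]⟩

theorem good : C.Good rels iv :=
  ⟨by decide, by decide +kernel,
   all_lt_of_gblocks _ 13 156275 20 (by decide) (blocks_cons (blocks_cons (blocks_cons (blocks_cons (blocks_cons (blocks_cons (blocks_cons (blocks_cons (blocks_cons (blocks_cons (blocks_cons (blocks_cons (blocks_cons (blocks_cons (blocks_cons (blocks_cons (blocks_cons (blocks_cons (blocks_cons (blocks_cons (blocks_nil _) d0) d1) d2) d3) d4) d5) d6) d7) d8) d9) d10) d11) d12) d13) d14) d15) d16) d17) d18) d19),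
   by decide +kernel,
   all_lt_of_gblocks _ 6 13022 204 (by decide) (blocks_cons (blocks_cons (blocks_cons (blocks_cons (blocks_cons (blocks_cons (blocks_cons (blocks_cons (blocks_cons (blocks_cons (blocks_cons (blocks_cons (blocks_cons (blocks_cons (blocks_cons (blocks_cons (blocks_cons (blocks_cons (blocks_cons (blocks_cons (blocks_cons (blocks_cons (blocks_cons (blocks_cons (blocks_cons (blocks_cons (blocks_cons (blocks_cons (blocks_cons (blocks_cons (blocks_cons (blocks_cons (blocks_cons (blocks_cons (blocks_cons (blocks_cons (blocks_cons (blocks_cons (blocks_cons (blocks_cons (blocks_cons (blocks_cons (blocks_cons (blocks_cons (blocks_cons (blocks_cons (blocks_cons (blocks_cons (blocks_cons (blocks_cons (blocks_cons (blocks_cons (blocks_cons (blocks_cons (blocks_cons (blocks_cons (blocks_cons (blocks_cons (blocks_cons (blocks_cons (blocks_cons (blocks_cons (blocks_cons (blocks_cons (blocks_cons (blocks_cons (blocks_cons (blocks_cons (blocks_cons (blocks_cons (blocks_cons (blocks_cons (blocks_cons (blocks_cons (blocks_cons (blocks_cons (blocks_cons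 (blocks_cons (blocks_cons (blocks_cons (blocks_cons (blocks_cons (blocks_cons (blocks_cons (blocks_cons (blocks_cons (blocks_cons (blocks_cons (blocks_cons (blocks_cons (blocks_cons (blocks_cons (blocks_cons (blocks_cons (blocks_cons (blocks_cons (blocks_cons (blocks_cons (blocks_cons (blocks_cons (blocks_cons (blocks_cons (blocks_cons (blocks_cons (blocks_cons (blocks_cons (blocks_cons (blocks_cons (blocks_cons (blocks_cons (blocks_cons (blocks_cons (blocks_cons (blocks_cons (blocks_cons (blocks_cons (blocks_cons (blocks_cons (blocks_cons (blocks_cons (blocks_cons (blocks_cons (blocks_cons (blocks_cons (blocks_cons (blocks_cons (blocks_cons (blocks_cons (blocks_cons (blocks_cons (blocks_cons (blocks_cons (blocks_cons (blocks_cons (blocks_cons (blocks_cons (blocks_cons (blocks_cons (blocks_cons (blocks_cons (blocks_cons (blocks_cons (blocks_cons (blocks_cons (blocks_cons (blocks_cons (blocks_cons (blocks_cons (blocks_cons (blocks_cons (blocks_cons (blocks_cons (blocks_cons (blocks_cons (blocks_cons (blocks_cons (blocks_cons (blocks_cons (blocks_cons (blocks_cons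 (blocks_cons (blocks_cons (blocks_cons (blocks_cons (blocks_cons (blocks_cons (blocks_cons (blocks_cons (blocks_cons (blocks_cons (blocks_cons (blocks_cons (blocks_cons (blocks_cons (blocks_cons (blocks_cons (blocks_cons (blocks_cons (blocks_cons (blocks_cons (blocks_cons (blocks_cons (blocks_cons (blocks_cons (blocks_cons (blocks_cons (blocks_cons (blocks_cons (blocks_cons (blocks_cons (blocks_cons (blocks_cons (blocks_cons (blocks_cons (blocks_cons (blocks_cons (blocks_cons (blocks_cons (blocks_cons (blocks_cons (blocks_cons (blocks_cons (blocks_cons (blocks_cons (blocks_nil _) s0) s1) s2) s3) s4) s5) s6) s7) s8) s9) s10) s11) s12) s13) s14) s15) s16) s17) s18) s19) s20) s21) s22) s23) s24) s25) s26) s27) s28) s29) s30) s31) s32) s33) s34) s35) s36) s37) s38) s39) s40) s41) s42) s43) s44) s45) s46) s47) s48) s49) s50) s51) s52) s53) s54) s55) s56) s57) s58) s59) s60) s61) s62) s63) s64) s65) s66) s67) s68) s69) s70) s71) s72) s73) s74) s75) s76) s77) s78) s79) s80) s81) s82) s83) s84) s85) s86) s87) s88) s89) s90) s91) s92) s93) s94) s95) s96) s97) s98)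 s99) s100) s101) s102) s103) s104) s105) s106) s107) s108) s109) s110) s111) s112) s113) s114) s115) s116) s117) s118) s119) s120) s121) s122) s123) s124) s125) s126) s127) s128) s129) s130) s131) s132) s133) s134) s135) s136) s137) s138) s139) s140) s141) s142) s143) s144) s145) s146) s147) s148) s149) s150) s151) s152) s153) s154) s155) s156) s157) s158) s159) s160) s161) s162) s163) s164) s165) s166) s167) s168) s169) s170) s171) s172) s173) s174) s175) s176) s177) s178) s179) s180) s181) s182) s183) s184) s185) s186) s187) s188) s189) s190) s191) s192) s193) s194) s195) s196) s197) s198) s199) s200) s201) s202) s203)⟩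

theorem closed : C.Closed [2, 3, 4, 5, 7] 122759 :=
  ⟨by decide, by decide, 1146495, 7856639, 5, 1361129609660622590572483930043011039234, by decide, by decide, by decide +kernel,
    all_lt_of_blocks _ 8 15345 60 (by decide) (blocks_cons (blocks_cons (blocks_cons (blocks_cons (blocks_cons (blocks_cons (blocks_cons (blocks_cons (blocks_cons (blocks_cons (blocks_cons (blocks_cons (blocks_cons (blocks_cons (blocks_cons (blocks_cons (blocks_cons (blocks_cons (blocks_cons (blocks_cons (blocks_cons (blocks_cons (blocks_cons (blocks_cons (blocks_cons (blocks_cons (blocks_cons (blocks_cons (blocks_cons (blocks_cons (blocks_cons (blocks_cons (blocks_cons (blocks_cons (blocks_cons (blocks_cons (blocks_cons (blocks_cons (blocks_cons (blocks_cons (blocks_cons (blocks_cons (blocks_cons (blocks_cons (blocks_cons (blocks_cons (blocks_cons (blocks_cons (blocks_cons (blocks_cons (blocks_cons (blocks_cons (blocks_cons (blocks_cons (blocks_cons (blocks_cons (blocks_cons (blocks_cons (blocks_cons (blocks_cons (blocks_nil _) c0) c1) c2) c3) c4) c5) c6) c7) c8) c9) c10) c11)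 c12) c13) c14) c15) c16) c17) c18) c19) c20) c21) c22) c23) c24) c25) c26) c27) c28) c29) c30) c31) c32) c33) c34) c35) c36) c37) c38) c39) c40) c41) c42) c43) c44) c45) c46) c47) c48) c49) c50) c51) c52) c53) c54) c55) c56) c57) c58) c59)⟩

theorem relIndex_le {G : Type*} [Group G] {el : ℕ → G} (R : RuleOK el rels iv) (H : Subgroup G)
    (hfix : ∀ x ∈ ([1, 2, 3, 4, 5, 6] : List ℕ), el x ∈ H) :
    H.relIndex (Subgroup.closure (el '' {x | x ∈ ([2, 3, 4, 5, 7] : List ℕ)})) ≠ 0 ∧
      H.relIndex (Subgroup.closure (el '' {x | x ∈ ([2, 3, 4, 5, 7] : List ℕ)})) ≤ 122760 :=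
  Cert.relIndex_le good closed R H hfix


end Cfsg.Agent.H58.ON1
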