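import Cfsg.Agent.H58.TCPres

set_option autoImplicit false
set_option Elab.async false
set_option maxRecDepth 100000

namespace Cfsg.Agent.H58.ON6

open Cfsg.Agent.H58

noncomputable def tb0 : Nat → Nat := (lf (nat_lit 0x180000060000004000001000001800000600000040000010000100000000000010800004200000180000460000110000044000010c00004300000000000000000000000000000000000000000000000000000000000000000000000000000000000000000000000000000000000000000000000000000000000000000000000000000000000000000000000000000000000000000000000000000000000000000000000000000000000000000000000000000000000000000000000000000000000000000000000000000000000000000000000000000000000000000000000000000000000000000000000000000000010000004000000c00000300000080000020000104000001))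
noncomputable def rk0 : Nat → Nat := (lf (nat_lit 0x100000))
noncomputable def st0 : Nat → Nat := (lf (nat_lit 0x1808000030100000400001808000000000490200008c0000040002380004500008c000004180000000004300000206000004000018000010000060000040000180000100000600010c240002080003a000080060000fc0001d00003e03))
def iv : Nat := 2005926962536512

def rels : List (List Nat) := [[1, 2, 1, 2, 1, 2],
  [1, 3, 1, 3],
  [1, 4, 1, 4],
  [1, 5, 1, 5],
  [1, 6, 1, 6],
  [2, 3, 2, 3, 2, 3],
  [2, 4, 2, 4],
  [2, 5, 2, 5],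
  [2, 6, 2, 6],
  [3, 4, 3, 4, 3, 4, 3, 4, 3, 4, 3, 4, 3, 4, 3, 4],
  [3, 5, 3, 5],
  [3, 6, 3, 6],
  [4, 5, 4, 5, 4, 5],
  [4, 6, 4, 6],
  [5, 6, 5, 6, 5, 6],
  [1, 6, 8, 8],
  [1, 6, 4, 3, 4, 3, 4, 3, 4, 3],
  [3, 8, 4, 8, 4, 3, 4, 7, 4, 7],
  [4, 8, 3, 8, 3, 4, 3, 7, 3, 7],
  [2, 3, 4, 7, 2, 3, 4, 7, 2, 3, 4, 7, 2, 3, 4, 7, 2, 3, 4, 7],
  [7, 2, 3, 7, 3, 2, 7, 2, 3, 7, 3],
  [7, 5, 4, 7, 4, 5, 7, 5, 4, 7, 4]]

noncomputable def tbl : Nat → Nat := (nd (nat_lit 1) tb0 (lf (nat_lit 0)))
noncomputable def rnk : Nat → Nat := (nd (nat_lit 1) rk0 (lf (nat_lit 0)))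
noncomputable def str : Nat → Nat := (nd (nat_lit 1) st0 (lf (nat_lit 0)))
noncomputable def clo : Nat → Nat := (lf (nat_lit 0))
def tree : ST := (ST.node (ST.node (ST.node (ST.node ST.nil (nat_lit 1) (nat_lit 0) (nat_lit 0) ST.nil) (nat_lit 4161) (nat_lit 0) (nat_lit 1) ST.nil) (nat_lit 4486) (nat_lit 0) (nat_lit 6) (ST.node ST.nil (nat_lit 17051715) (nat_lit 4) (nat_lit 2) ST.nil)) (nat_lit 17055812) (nat_lit 6) (nat_lit 2) (ST.node (ST.node ST.nil (nat_lit 18358658) (nat_lit 18) (nat_lit 3) ST.nil) (nat_lit 70884266113) (nat_lit 2) (nat_lit 5) (ST.node ST.nil (nat_lit 1171798130737295622) (nat_lit 33) (nat_lit 1) ST.nil)))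

theorem d0 : sumPow (grd 1 (defn tbl rnk (okPair iv))) 6 0 = 0 := by decide +kernel
theorem s0 : sumPow (grd 1 (chunk tbl (okRule iv tree) str 9)) 3 0 = 0 := by decide +kernel

noncomputable def C : Cert := ⟨tbl, rnk, str, clo, tree, 1, 31, 9, 1, [2, 3, 4]⟩

theorem good : C.Good rels iv :=
  ⟨by decide, by decide +kernel,
   all_lt_of_gblocks _ 6 1 1 (by decide) (blocks_cons (blocks_nil _) d0),
   by decide +kernel,
   all_lt_of_gblocks _ 3 1 1 (by decide) (blocks_cons (blocks_nil _) s0)⟩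

theorem goal1 {G : Type*} [Group G] {el : ℕ → G} (R : RuleOK el rels iv) (H : Subgroup G)
    (hfix : ∀ x ∈ ([2, 3, 4] : List ℕ), el x ∈ H) : el 1 ∈ H :=
  Cert.goal_mem good R H hfix (i := 590) (by decide +kernel) (by decide +kernel)

theorem goal6 {G : Type*} [Group G] {el : ℕ → G} (R : RuleOK el rels iv) (H : Subgroup G)
    (hfix : ∀ x ∈ ([2, 3, 4] : List ℕ), el x ∈ H) : el 6 ∈ H :=
  Cert.goal_mem good R H hfix (i := 592) (by decide +kernel) (by decide +kernel)


end Cfsg.Agent.H58.ON6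


set_option autoImplicit false
set_option Elab.async false
set_option maxRecDepth 100000

namespace Cfsg.Agent.H58.ON7

open Cfsg.Agent.H58

noncomputable def tb0 : Nat → Nat := (lf (nat_lit 0x180000060000004000001000001800000600000040000010000100000000000001800004600001140000450000110000044000010c000043000000000000000000000000000000000000000000000000000000000000000000000000000000000000000000000000000000000000000000000000000000000000000000000000000000000000000000000000000000000000000000000000000000000000000000000000000000000000000000000000000000000000000000000000000000000000000000000000000000000000000000000000000000000000000000000000000000000000000000000000000000000140000050000010000004000000c0000030000104000001))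
noncomputable def rk0 : Nat → Nat := (lf (nat_lit 0x100000))
noncomputable def st0 : Nat → Nat := (lf (nat_lit 0x180800003010000040000100800000000049020000820000040000180000000008200000418000018000050000060000140000180000500000600001400022848000430000780001080c0002080003c000080060000fc0001e00003e03))
def iv : Nat := 2005926962536512

def rels : List (List Nat) := [[1, 2, 1, 2, 1, 2],
  [1, 3, 1, 3],
  [1, 4, 1, 4],
  [1, 5, 1, 5],
  [1, 6, 1, 6],
  [2, 3, 2, 3, 2, 3],
  [2, 4, 2, 4],
  [2, 5, 2, 5],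
  [2, 6, 2, 6],
  [3, 4, 3, 4, 3, 4, 3, 4, 3, 4, 3, 4, 3, 4, 3, 4],
  [3, 5, 3, 5],
  [3, 6, 3, 6],
  [4, 5, 4, 5, 4, 5],
  [4, 6, 4, 6],
  [5, 6, 5, 6, 5, 6],
  [1, 6, 8, 8],
  [1, 6, 4, 3, 4, 3, 4, 3, 4, 3],
  [3, 8, 4, 8, 4, 3, 4, 7, 4, 7],
  [4, 8, 3, 8, 3, 4, 3, 7, 3, 7],
  [2, 3, 4, 7, 2, 3, 4, 7, 2, 3, 4, 7, 2, 3, 4, 7, 2, 3, 4, 7],
  [7, 2, 3, 7, 3, 2, 7, 2, 3, 7, 3],
  [7, 5, 4, 7, 4, 5, 7, 5, 4, 7, 4]]

noncomputable def tbl : Nat → Nat := (nd (nat_lit 1) tb0 (lf (nat_lit 0)))
noncomputable def rnk : Nat → Nat := (nd (nat_lit 1) rk0 (lf (nat_lit 0)))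
noncomputable def str : Nat → Nat := (nd (nat_lit 1) st0 (lf (nat_lit 0)))
noncomputable def clo : Nat → Nat := (lf (nat_lit 0))
def tree : ST := (ST.node (ST.node (ST.node (ST.node ST.nil (nat_lit 1) (nat_lit 0) (nat_lit 0) ST.nil) (nat_lit 4161) (nat_lit 0) (nat_lit 1) ST.nil) (nat_lit 4486) (nat_lit 0) (nat_lit 6) (ST.node ST.nil (nat_lit 17051715) (nat_lit 4) (nat_lit 2) ST.nil)) (nat_lit 17055812) (nat_lit 6) (nat_lit 2) (ST.node (ST.node ST.nil (nat_lit 17059909) (nat_lit 8) (nat_lit 2) ST.nil) (nat_lit 75247407493) (nat_lit 30) (nat_lit 5) (ST.node ST.nil (nat_lit 1171798130737295622) (nat_lit 33) (nat_lit 1) ST.nil)))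

theorem d0 : sumPow (grd 1 (defn tbl rnk (okPair iv))) 6 0 = 0 := by decide +kernel
theorem s0 : sumPow (grd 1 (chunk tbl (okRule iv tree) str 9)) 3 0 = 0 := by decide +kernel

noncomputable def C : Cert := ⟨tbl, rnk, str, clo, tree, 1, 31, 9, 1, [3, 4, 5]⟩

theorem good : C.Good rels iv :=
  ⟨by decide, by decide +kernel,
   all_lt_of_gblocks _ 6 1 1 (by decide) (blocks_cons (blocks_nil _) d0),
   by decide +kernel,
   all_lt_of_gblocks _ 3 1 1 (by decide) (blocks_cons (blocks_nil _) s0)⟩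

theorem goal1 {G : Type*} [Group G] {el : ℕ → G} (R : RuleOK el rels iv) (H : Subgroup G)
    (hfix : ∀ x ∈ ([3, 4, 5] : List ℕ), el x ∈ H) : el 1 ∈ H :=
  Cert.goal_mem good R H hfix (i := 590) (by decide +kernel) (by decide +kernel)

theorem goal6 {G : Type*} [Group G] {el : ℕ → G} (R : RuleOK el rels iv) (H : Subgroup G)
    (hfix : ∀ x ∈ ([3, 4, 5] : List ℕ), el x ∈ H) : el 6 ∈ H :=
  Cert.goal_mem good R H hfix (i := 592) (by decide +kernel) (by decide +kernel)


end Cfsg.Agent.H58.ON7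

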